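import Cfsg.Agent.Omega.NO3S.SN2.CL.Frame

/-!
# THEOREM CL (helper928 #22306, #22823), section 0 (helper448)

`h : Inp ε`, `i ≠ j`, `W = EE ε i j`.

* `acts_of_XX` : `x ∈ XX ε i j ∩ N(V)` acts on `ε` as `1` or `(i j)`;
* `mem_iff` : `x ∈ XX ε i j`, `x ∉ N(V)` : `x ε(y) x⁻¹ ∈ V ↔ y i = y j`;
* **`br`** : `[a, c] = z_i ^ s z_j ^ t` for `c ∈ C(V)` and all `a ∈ W - V`;  **`br_surj`** : all four values occur;
* `letters` : `y z_i y⁻¹ = x z_i x⁻¹ · z_i ^ s z_j ^ t` for `x`, `y ∈ XX ε i j` outside `N(V)`;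
* **`gam`** : `σ i = i`, `σ j = j` ⟹ some `g` acts as `σ` on all labelled lines `cj y ε`, `y ∈ XX ε i j`.
-/

set_option autoImplicit false
set_option linter.unusedSectionVars false
set_option linter.unusedVariables false

namespace Cfsg.Agent.Omega.NO3S.SN2.CL

open Subgroup Cfsg.Agent.Omega.S5.Def Cfsg.Agent.Omega.NSix.Base Cfsg.Agent.Omega.NSix.Basic
open Cfsg.Agent.Omega.NO3S.SN2.PathW

universe u

variable {G : Type u} [Group G] {n : ℕ}

theorem zmod_cases (a : ZMod 2) : a = 0 ∨ a = 1 := by revert a; decide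

theorem zmod_add_self (a : ZMod 2) : a + a = 0 := CharTwo.add_self_eq_zero a

theorem zmod_ne {a b : ZMod 2} (h : a ≠ b) : a = b + 1 := by revert a b; decide

theorem zmod_ne_add {a b c d : ZMod 2} (h : a ≠ b) (h' : c ≠ d) : a + c = b + d := by
  revert a b c d; decide

theorem tt_eq (ε : (Fin n → ZMod 2) → G) (i j : Fin n) (a b : ZMod 2) :
    tt ε i j a b = ε (Pi.single i a + Pi.single j b) := by
  have e : ∀ (i : Fin n) (a : ZMod 2), a • (Pi.single i 1 : Fin n → ZMod 2) = Pi.single i a := by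
    intro i a
    rcases zmod_cases a with rfl | rfl
    · rw [zero_smul, Pi.single_zero]
    · rw [one_smul]
  unfold tt
  rw [e, e]

theorem rr_eq_tt {V L : Subgroup G} {ε : (Fin n → ZMod 2) → G} (h : EvenSet n V L ε) (i j : Fin n) :
    rr ε i j = tt ε i j 1 1 := (tt_one_one h i j).symm

/-- values of `tt` on the coordinates -/
theorem tt_coord {i j : Fin n} (hij : i ≠ j) (a b : ZMod 2) :
    (Pi.single i a + Pi.single j b : Fin n → ZMod 2) i = a ∧ (Pi.single i a + Pi.single j b : Fin n → ZMod 2) j = b ∧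
      ∀ k, k ≠ i → k ≠ j → (Pi.single i a + Pi.single j b : Fin n → ZMod 2) k = 0 := by
  refine ⟨?_, ?_, fun k hk hk' => ?_⟩
  · rw [Pi.add_apply, Pi.single_eq_same, Pi.single_eq_of_ne hij, add_zero]
  · rw [Pi.add_apply, Pi.single_eq_same, Pi.single_eq_of_ne hij.symm, zero_add]
  · rw [Pi.add_apply, Pi.single_eq_of_ne hk, Pi.single_eq_of_ne hk', add_zero]

namespace Inp

variable {ε : (Fin n → ZMod 2) → G} (h : Inp ε) {i j : Fin n}
include h

theorem comm_of {c v : G} (hc : c ∈ centralizer (vv ε : Set G)) (hv : v ∈ vv ε) : c * v = v * c :=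
  (mem_centralizer_iff.1 hc v hv).symm

theorem conj_of {c v : G} (hc : c ∈ centralizer (vv ε : Set G)) (hv : v ∈ vv ε) : c * v * c⁻¹ = v := by
  rw [h.comm_of hc hv, mul_inv_cancel_right]

theorem tt_memV (i j : Fin n) (a b : ZMod 2) : tt ε i j a b ∈ vv ε := h.ev.mem _

theorem zz_memV (i : Fin n) : zz ε i ∈ vv ε := h.ev.mem _

/-- A permutation which fixes all letters `≠ i, j`. -/
theorem acts_of_fix (hij : i ≠ j) {σ : Equiv.Perm (Fin n)} (hσ : ∀ l, l ≠ i → l ≠ j → σ l = l) :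
    σ = 1 ∨ σ = Equiv.swap i j := by
  have h1 : ∀ k l, l ≠ i → l ≠ j → σ k = l → k = l := fun k l h1 h2 h3 =>
    σ.injective (h3.trans (hσ l h1 h2).symm)
  have hi : σ i = i ∨ σ i = j := by
    by_contra hcon
    push Not at hcon
    exact hcon.1 (h1 i (σ i) hcon.1 hcon.2 rfl).symm
  have hj : σ j = i ∨ σ j = j := by
    by_contra hcon
    push Not at hcon
    exact hcon.2 (h1 j (σ j) hcon.1 hcon.2 rfl).symm
  rcases hi with hi | hi
  · left
    have hj' : σ j = j := hj.resolve_left fun h2 => hij (σ.injective (hi.trans h2.symm))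
    ext l
    congr 1
    by_cases h2 : l = i
    · rw [h2, hi]; rfl
    · by_cases h3 : l = j
      · rw [h3, hj']; rfl
      · rw [hσ l h2 h3]; rfl
  · right
    have hj' : σ j = i := hj.resolve_right fun h2 => hij (σ.injective (hi.trans h2.symm))
    ext l
    congr 1
    by_cases h2 : l = i
    · rw [h2, hi, Equiv.swap_apply_left]
    · by_cases h3 : l = j
      · rw [h3, hj', Equiv.swap_apply_right]
      · rw [hσ l h2 h3, Equiv.swap_apply_of_ne_of_ne h2 h3]

/-- **The elements of `XX ε i j` in `N(V)`.** -/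
theorem acts_of_XX (hij : i ≠ j) {x : G} (hx : x ∈ XX ε i j) (hn : x ∈ normalizer (vv ε : Set G)) :
    Acts ε x 1 ∨ Acts ε x (Equiv.swap i j) := by
  obtain ⟨σ, hσ⟩ := h.ev.perm x hn
  have h1 : ∀ l, l ≠ i → l ≠ j → σ l = l := fun l hi hj =>
    (h.ev.fixes_iff h.n3 hσ l).1 (mem_centralizer_singleton_iff.1 (XX_le hi hj hx))
  rcases h.acts_of_fix hij h1 with rfl | rfl
  · exact Or.inl hσ
  · exact Or.inr hσ

/-- `x ε(y) x⁻¹ ∉ V` for `y i ≠ y j`. -/
theorem notMem_of_ne (hij : i ≠ j) {x : G} (hx : x ∈ XX ε i j) (hn : x ∉ normalizer (vv ε : Set G))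
    {y : Fin n → ZMod 2} (hy : y i ≠ y j) : cj x ε y ∉ vv ε := by
  intro h1
  apply hn
  -- all `cj x ε w` are in `V`
  have key : ∀ w : Fin n → ZMod 2, cj x ε w ∈ vv ε := by
    intro w
    by_cases hw : w i = w j
    · rw [cj_eq_of_XX hx hw]
      exact h.ev.mem w
    · have h2 : (w + y) i = (w + y) j := by
        rw [Pi.add_apply, Pi.add_apply]
        exact zmod_ne_add hw hy
      have h3 : cj x ε w = cj x ε (w + y) * cj x ε y := by
        rw [← (h.conj x).ev.add, add_assoc, S5.Def.add_self, add_zero]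
      rw [h3, cj_eq_of_XX hx h2]
      exact mul_mem (h.ev.mem _) h1
  have h2 : vv (cj x ε) ≤ vv ε := by
    intro v hv
    obtain ⟨w, rfl⟩ := (h.conj x).ev.surj v hv
    exact key w
  have h3 : ∀ v ∈ vv ε, x * v * x⁻¹ ∈ vv ε := fun v hv => h2 (conj_mem_vv hv)
  -- `x` maps `V` onto `V`: every `ε y` is a value of `cj x ε`
  have h4 : ∀ v ∈ vv ε, x⁻¹ * v * x ∈ vv ε := by
    intro v hv
    obtain ⟨w, rfl⟩ := h.ev.surj v hv
    by_cases hw : w i = w j
    · have h5 : cj x⁻¹ ε w = ε w := cj_eq_of_XX (inv_mem hx) hw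
      have e : x⁻¹ * ε w * x = cj x⁻¹ ε w := by
        simp only [cj, inv_inv]
      rw [e, h5]
      exact h.ev.mem w
    · obtain ⟨y', hy'⟩ := h.ev.surj _ h1
      have hy'' : y' i ≠ y' j := by
        intro h5
        have h6 : cj x ε y' = cj x ε y := by rw [cj_eq_of_XX hx h5, hy']
        rcases (h.conj x).ev.eq_iff.1 h6 with h7 | h7
        · exact hy (h7 ▸ h5)
        · apply hy
          have h8 := congrFun h7 i
          have h9 := congrFun h7 j
          rw [h8, h9, Pi.add_apply, Pi.add_apply] at h5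
          exact add_right_cancel h5
      have h5 : (w + y') i = (w + y') j := by
        rw [Pi.add_apply, Pi.add_apply]
        exact zmod_ne_add hw hy''
      have h6 : ε w = ε (w + y') * ε y' := by rw [← h.ev.add, add_assoc, S5.Def.add_self, add_zero]
      have h7 := cj_eq_of_XX (inv_mem hx) h5
      have e : x⁻¹ * ε w * x = cj x⁻¹ ε (w + y') * (x⁻¹ * ε y' * x) := by
        rw [h6]
        simp only [cj]
        group
      rw [e, h7, hy']
      refine mul_mem (h.ev.mem _) ?_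
      have e2 : x⁻¹ * cj x ε y * x = ε y := by
        simp only [cj]
        group
      rw [e2]
      exact h.ev.mem y
  rw [mem_normalizer_iff]
  refine fun v => ⟨h3 v, fun hv => ?_⟩
  have h5 := h4 _ hv
  have e : x⁻¹ * (x * v * x⁻¹) * x = v := by group
  rwa [e] at h5

theorem mem_iff (hij : i ≠ j) {x : G} (hx : x ∈ XX ε i j) (hn : x ∉ normalizer (vv ε : Set G))
    {y : Fin n → ZMod 2} : cj x ε y ∈ vv ε ↔ y i = y j := by
  constructor
  · intro h1
    by_contra h2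
    exact h.notMem_of_ne hij hx hn h2 h1
  · intro h1
    rw [cj_eq_of_XX hx h1]
    exact h.ev.mem y

theorem zz_notMem (hij : i ≠ j) {x : G} (hx : x ∈ XX ε i j) (hn : x ∉ normalizer (vv ε : Set G)) :
    x * zz ε i * x⁻¹ ∉ vv ε :=
  h.notMem_of_ne hij hx hn (y := Pi.single i 1) (by
    rw [Pi.single_eq_same, Pi.single_eq_of_ne hij.symm]
    exact one_ne_zero)

/-- `x ∈ XX ε i j` with `x z_i x⁻¹ ∈ V` normalises `V`. -/
theorem norm_of_mem (hij : i ≠ j) {x : G} (hx : x ∈ XX ε i j) (hz : x * zz ε i * x⁻¹ ∈ vv ε) :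
    x ∈ normalizer (vv ε : Set G) := by
  by_contra hn
  exact h.zz_notMem hij hx hn hz

theorem zz_mem_EE {x : G} (hx : x ∈ XX ε i j) : x * zz ε i * x⁻¹ ∈ EE ε i j :=
  EE_conj hx (vv_le_EE i j (h.zz_memV i))

/-- `[a, c]` does not depend on `a ∈ W - V`. -/
theorem br_indep (hij : i ≠ j) {c : G} (hc : c ∈ centralizer (vv ε : Set G)) {a b v : G} (ha : a ∈ EE ε i j)
    (haV : a ∉ vv ε) (hb : b ∈ EE ε i j) (hbV : b ∉ vv ε) (he : c * a * c⁻¹ = a * v) : c * b * c⁻¹ = b * v := by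
  have h1 := h.two i j hij a ha b hb haV hbV
  have e : b = a * (a * b) := by rw [← mul_assoc, h.EE_sq a ha, one_mul]
  have hv : v ∈ EE ε i j := by
    have h2 : v = a⁻¹ * (c * a * c⁻¹) := by rw [he]; group
    rw [h2]
    exact mul_mem (inv_mem ha) (EE_conj (centralizer_le_XX hc) ha)
  calc c * b * c⁻¹ = c * (a * (a * b)) * c⁻¹ := by rw [← e]
    _ = (c * a * c⁻¹) * (c * (a * b) * c⁻¹) := by group
    _ = a * v * (a * b) := by rw [he, h.conj_of hc h1]
    _ = a * (a * b) * v := by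
        rw [mul_assoc, mul_assoc, h.EE_comm v hv (a * b) (vv_le_EE i j h1)]
    _ = b * v := by rw [← e]

/-- `[a, c c'] = [a, c] [a, c']`. -/
theorem br_mul {c c' a v v' : G} (hc : c ∈ centralizer (vv ε : Set G))
    (hv' : v' ∈ vv ε) (he : c * a * c⁻¹ = a * v) (he' : c' * a * c'⁻¹ = a * v') :
    c * c' * a * (c * c')⁻¹ = a * (v * v') := by
  calc c * c' * a * (c * c')⁻¹ = c * (c' * a * c'⁻¹) * c⁻¹ := by group
    _ = c * a * c⁻¹ * (c * v' * c⁻¹) := by rw [he']; group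
    _ = a * (v * v') := by rw [he, h.conj_of hc hv', mul_assoc]

/-- `c a c⁻¹ = a v` with `v ∈ V`. -/
theorem br_mem (hij : i ≠ j) {c : G} (hc : c ∈ centralizer (vv ε : Set G)) {a : G} (ha : a ∈ EE ε i j)
    (haV : a ∉ vv ε) : ∃ y, c * a * c⁻¹ = a * ε y := by
  have h1 : c * a * c⁻¹ ∉ vv ε := by
    intro h2
    apply haV
    have h3 := h.conj_of (inv_mem hc) h2
    have e : c⁻¹ * (c * a * c⁻¹) * c⁻¹⁻¹ = a := by group
    rw [e] at h3
    rw [h3]
    exact h2
  obtain ⟨y, hy⟩ := h.ev.surj _ (h.two i j hij a ha _ (EE_conj (centralizer_le_XX hc) ha) haV h1)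
  exact ⟨y, by rw [hy, ← mul_assoc, h.EE_sq a ha, one_mul]⟩

/-- Conjugation of a bracket by an element acting on `ε` with `σ i = i`, `σ j = j` or swapped. -/
theorem br_conj (hij : i ≠ j) {c m a v : G} {σ : Equiv.Perm (Fin n)} (hm : Acts ε m σ)
    (hσ : EE ε (σ i) (σ j) = EE ε i j) (hc : c ∈ centralizer (vv ε : Set G)) (ha : a ∈ EE ε i j)
    (haV : a ∉ vv ε) (he : c * a * c⁻¹ = a * v) : m * c * m⁻¹ * a * (m * c * m⁻¹)⁻¹ = a * (m * v * m⁻¹) := by
  have hn := h.acts_norm hm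
  have h1 : m * a * m⁻¹ ∈ EE ε i j := by
    rw [← hσ]
    exact h.EE_acts hm ha
  have h2 := h.notMem_acts hm haV
  have h3 : m * c * m⁻¹ ∈ centralizer (vv ε : Set G) := by
    rw [mem_centralizer_iff]
    intro w hw
    have h4 : m⁻¹ * w * m ∈ vv ε := by
      have := (mem_normalizer_iff.1 (inv_mem hn) w).1 hw
      rwa [inv_inv] at this
    have h5 := h.comm_of hc h4
    calc w * (m * c * m⁻¹) = m * (m⁻¹ * w * m * c) * m⁻¹ := by group
      _ = m * (c * (m⁻¹ * w * m)) * m⁻¹ := by rw [h5]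
      _ = _ := by group
  refine h.br_indep hij h3 h1 h2 ha haV ?_
  calc m * c * m⁻¹ * (m * a * m⁻¹) * (m * c * m⁻¹)⁻¹ = m * (c * a * c⁻¹) * m⁻¹ := by group
    _ = m * a * m⁻¹ * (m * v * m⁻¹) := by rw [he]; group

/-- (3a), (3b) : `y i = y j` iff `c` normalises the line of `cj x ε`. -/
theorem br_norm (hij : i ≠ j) {x : G} (hx : x ∈ XX ε i j) {c : G}
    (hc : c ∈ centralizer (vv ε : Set G)) {y : Fin n → ZMod 2}
    (he : c * (x * zz ε i * x⁻¹) * c⁻¹ = x * zz ε i * x⁻¹ * ε y) :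
    (x⁻¹ * c * x ∈ normalizer (vv ε : Set G) → ε y = 1 ∨ ε y = rr ε i j) ∧
      (y i = y j → x⁻¹ * c * x ∈ normalizer (vv ε : Set G)) := by
  have hxc : x⁻¹ * c * x ∈ XX ε i j := mul_mem (mul_mem (inv_mem hx) (centralizer_le_XX hc)) hx
  constructor
  · intro h1
    rcases h.acts_of_XX hij hxc h1 with h2 | h2
    · left
      have h3 := h2.single i
      change x⁻¹ * c * x * zz ε i * (x⁻¹ * c * x)⁻¹ = zz ε i at h3
      have h4 : c * (x * zz ε i * x⁻¹) * c⁻¹ = x * zz ε i * x⁻¹ := by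
        calc c * (x * zz ε i * x⁻¹) * c⁻¹ = x * (x⁻¹ * c * x * zz ε i * (x⁻¹ * c * x)⁻¹) * x⁻¹ := by group
          _ = _ := by rw [h3]
      rw [h4] at he
      exact (left_eq_mul.1 he)
    · right
      have h3 := h2.single i
      rw [Equiv.swap_apply_left] at h3
      change x⁻¹ * c * x * zz ε i * (x⁻¹ * c * x)⁻¹ = zz ε j at h3
      have h4 : c * (x * zz ε i * x⁻¹) * c⁻¹ = x * zz ε j * x⁻¹ := by
        calc c * (x * zz ε i * x⁻¹) * c⁻¹ = x * (x⁻¹ * c * x * zz ε i * (x⁻¹ * c * x)⁻¹) * x⁻¹ := by group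
          _ = _ := by rw [h3]
      rw [h4] at he
      have h5 : ε y = x * (zz ε i)⁻¹ * x⁻¹ * (x * zz ε j * x⁻¹) := by rw [he]; group
      rw [h5, zz_inv h.ev]
      have h6 := h.rr_cj_of_XX hx
      rw [rr_cj] at h6
      rw [← h6]
      simp only [rr]
      group
  · intro h1
    refine h.norm_of_mem hij hxc ?_
    have h2 := cj_eq_of_XX hx h1
    have h3 : x⁻¹ * c * x * zz ε i * (x⁻¹ * c * x)⁻¹ = zz ε i * ε y := by
      calc x⁻¹ * c * x * zz ε i * (x⁻¹ * c * x)⁻¹ = x⁻¹ * (c * (x * zz ε i * x⁻¹) * c⁻¹) * x := by group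
        _ = x⁻¹ * (x * zz ε i * x⁻¹ * cj x ε y) * x := by rw [he, h2]
        _ = _ := by simp only [cj]; group
    rw [h3]
    exact mul_mem (h.zz_memV i) (h.ev.mem y)

/-- (5) a vector `y`, `y i ≠ y j`, which is `Sym(n - {i,j})`-invariant modulo `z_i z_j` -/
theorem eq_of_inv (hij : i ≠ j) {y : Fin n → ZMod 2} (hy : y i ≠ y j)
    (hinv : ∀ k l, k ≠ i → k ≠ j → l ≠ i → l ≠ j → k ≠ l →
      ε (y ∘ (Equiv.swap k l).symm) = ε y ∨ ε (y ∘ (Equiv.swap k l).symm) = ε y * rr ε i j) :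
    ε y = zz ε i ∨ ε y = zz ε j := by
  -- `y` is constant outside `{i, j}`
  have hconst : ∀ k l, k ≠ i → k ≠ j → l ≠ i → l ≠ j → y k = y l := by
    intro k l hki hkj hli hlj
    by_cases hkl : k = l
    · rw [hkl]
    have hyi : (y ∘ (Equiv.swap k l).symm) i = y i := by
      rw [Function.comp_apply, Equiv.symm_swap, Equiv.swap_apply_of_ne_of_ne hki.symm hli.symm]
    have hyk : (y ∘ (Equiv.swap k l).symm) k = y l := by
      rw [Function.comp_apply, Equiv.symm_swap, Equiv.swap_apply_left]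
    have key : y ∘ (Equiv.swap k l).symm = y := by
      rcases hinv k l hki hkj hli hlj hkl with h1 | h1
      · rcases h.ev.eq_iff.1 h1 with h2 | h2
        · exact h2
        · exfalso
          have h3 := congrFun h2 i
          rw [hyi, Pi.add_apply, Pi.one_apply] at h3
          exact one_ne_zero (left_eq_add.1 h3)
      · rw [show rr ε i j = ε (Pi.single i 1 + Pi.single j 1) by rw [h.ev.add]; rfl, ← h.ev.add] at h1
        obtain ⟨e1, e2, e3⟩ := tt_coord hij (1 : ZMod 2) 1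
        rcases h.ev.eq_iff.1 h1 with h2 | h2
        · exfalso
          have h3 := congrFun h2 i
          rw [hyi, Pi.add_apply, e1] at h3
          exact one_ne_zero (left_eq_add.1 h3)
        · exfalso
          obtain ⟨p, hp⟩ := h.exists_letter {i, j, k, l} (Finset.card_le_four.trans (by norm_num))
          simp only [Finset.mem_insert, Finset.mem_singleton, not_or] at hp
          have h3 := congrFun h2 p
          rw [Function.comp_apply, Equiv.symm_swap, Equiv.swap_apply_of_ne_of_ne hp.2.2.1 hp.2.2.2,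
            Pi.add_apply, Pi.add_apply, e3 p hp.1 hp.2.1, Pi.one_apply, add_zero] at h3
          exact one_ne_zero (left_eq_add.1 h3)
    have h3 := congrFun key k
    rw [hyk] at h3
    exact h3.symm
  obtain ⟨p, hp⟩ := h.exists_letter {i, j} (Finset.card_le_two.trans (by norm_num))
  simp only [Finset.mem_insert, Finset.mem_singleton, not_or] at hp
  -- `y = single _ 1 + γ`
  have hgen : ∀ k : Fin n, ∀ (γ : ZMod 2), y = Pi.single k 1 + (fun _ => γ) → ε y = zz ε k := by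
    intro k γ hk
    rw [hk]
    rcases zmod_cases γ with rfl | rfl
    · have : (fun _ : Fin n => (0 : ZMod 2)) = 0 := rfl
      rw [this, add_zero]; rfl
    · exact h.ev.eq_iff.2 (Or.inr rfl)
  by_cases hp1 : y j = y p
  · left
    refine hgen i (y p) ?_
    funext k
    rw [Pi.add_apply]
    by_cases h1 : k = i
    · rw [h1, Pi.single_eq_same, zmod_ne hy, hp1, add_comm]
    · rw [Pi.single_eq_of_ne h1, zero_add]
      by_cases h2 : k = j
      · rw [h2, hp1]
      · exact hconst k p h1 h2 hp.1 hp.2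
  · right
    have hp2 : y i = y p := by
      rw [zmod_ne hy, zmod_ne hp1, add_assoc, zmod_add_self, add_zero]
    refine hgen j (y p) ?_
    funext k
    rw [Pi.add_apply]
    by_cases h1 : k = j
    · rw [h1, Pi.single_eq_same, zmod_ne hp1, add_comm]
    · rw [Pi.single_eq_of_ne h1, zero_add]
      by_cases h2 : k = i
      · rw [h2, hp2]
      · exact hconst k p h2 h1 hp.1 hp.2

omit h in
theorem EE_fix {σ : Equiv.Perm (Fin n)} (hi : σ i = i) (hj : σ j = j) : EE ε (σ i) (σ j) = EE ε i j := by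
  rw [hi, hj]

omit h in
theorem EE_swap : EE ε (Equiv.swap i j i) (Equiv.swap i j j) = EE ε i j := by
  rw [Equiv.swap_apply_left, Equiv.swap_apply_right, EE_symm]

/-- **The image of `c ↦ [a, c]`**, for one `a = x z_i x⁻¹`. -/
theorem br_aux (hij : i ≠ j) {x : G} (hx : x ∈ XX ε i j) (hn : x ∉ normalizer (vv ε : Set G)) :
    (∃ c ∈ centralizer (vv ε : Set G), c * (x * zz ε i * x⁻¹) * c⁻¹ = x * zz ε i * x⁻¹ * tt ε i j 1 0) ∧
    (∃ c ∈ centralizer (vv ε : Set G), c * (x * zz ε i * x⁻¹) * c⁻¹ = x * zz ε i * x⁻¹ * tt ε i j 0 1) ∧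
    ∀ c ∈ centralizer (vv ε : Set G), ∃ s t, c * (x * zz ε i * x⁻¹) * c⁻¹ = x * zz ε i * x⁻¹ * tt ε i j s t := by
  set a := x * zz ε i * x⁻¹ with ha
  have haE : a ∈ EE ε i j := h.zz_mem_EE hx
  have haV : a ∉ vv ε := h.zz_notMem hij hx hn
  obtain ⟨c₀, hc₀, hcn⟩ := h.ln i j hij x hx hn
  obtain ⟨y₀, hy₀⟩ := h.br_mem hij hc₀ haE haV
  have hne : y₀ i ≠ y₀ j := fun h1 => hcn ((h.br_norm hij hx hc₀ hy₀).2 h1)
  -- all brackets
  have hall : ∀ c ∈ centralizer (vv ε : Set G), ∀ y, c * a * c⁻¹ = a * ε y →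
      (ε y = 1 ∨ ε y = rr ε i j) ∨ (ε y = ε y₀ ∨ ε y = ε y₀ * rr ε i j) := by
    intro c hc y hy
    by_cases h1 : x⁻¹ * c * x ∈ normalizer (vv ε : Set G)
    · exact Or.inl ((h.br_norm hij hx hc hy).1 h1)
    · right
      have h2 : y i ≠ y j := fun h3 => h1 ((h.br_norm hij hx hc hy).2 h3)
      have h3 := h.br_mul hc₀ (h.ev.mem y) hy₀ hy
      rw [← h.ev.add] at h3
      have h4 : (y₀ + y) i = (y₀ + y) j := by
        rw [Pi.add_apply, Pi.add_apply]
        exact zmod_ne_add hne h2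
      have h5 := h.br_norm hij hx (mul_mem hc₀ hc) h3
      have e : ∀ w : G, ε (y₀ + y) = w → ε y = ε y₀ * w := by
        intro w hw
        rw [← hw, h.ev.add, ← mul_assoc, h.ev.sq, one_mul]
      rcases h5.1 (h5.2 h4) with h6 | h6
      · left
        rw [e _ h6, mul_one]
      · right
        exact e _ h6
  -- invariance
  have hinv : ∀ σ : Equiv.Perm (Fin n), EE ε (σ i) (σ j) = EE ε i j →
      ∃ c ∈ centralizer (vv ε : Set G), c * a * c⁻¹ = a * ε (y₀ ∘ σ.symm) := by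
    intro σ hσ
    obtain ⟨m, -, hm⟩ := h.ev.full σ
    have h1 := h.br_conj hij hm hσ hc₀ haE haV hy₀
    rw [hm y₀] at h1
    refine ⟨m * c₀ * m⁻¹, ?_, h1⟩
    rw [mem_centralizer_iff]
    intro w hw
    have h4 : m⁻¹ * w * m ∈ vv ε := by
      have := (mem_normalizer_iff.1 (inv_mem (h.acts_norm hm)) w).1 hw
      rwa [inv_inv] at this
    have h5 := h.comm_of hc₀ h4
    calc w * (m * c₀ * m⁻¹) = m * (m⁻¹ * w * m * c₀) * m⁻¹ := by group
      _ = m * (c₀ * (m⁻¹ * w * m)) * m⁻¹ := by rw [h5]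
      _ = _ := by group
  have hz : ε y₀ = zz ε i ∨ ε y₀ = zz ε j := by
    refine h.eq_of_inv hij hne ?_
    intro k l hki hkj hli hlj hkl
    have hσi : Equiv.swap k l i = i := Equiv.swap_apply_of_ne_of_ne hki.symm hli.symm
    have hσj : Equiv.swap k l j = j := Equiv.swap_apply_of_ne_of_ne hkj.symm hlj.symm
    obtain ⟨c, hc, hce⟩ := hinv (Equiv.swap k l) (EE_fix hσi hσj)
    have hyi : (y₀ ∘ (Equiv.swap k l).symm) i ≠ (y₀ ∘ (Equiv.swap k l).symm) j := by
      rw [Function.comp_apply, Function.comp_apply, Equiv.symm_swap, hσi, hσj]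
      exact hne
    rcases hall c hc _ hce with h1 | h1
    · exfalso
      apply hyi
      have key : ∀ w w' : Fin n → ZMod 2, ε w = ε w' → w' i = w' j → w i = w j := by
        intro w w' h2 h3
        rcases h.ev.eq_iff.1 h2 with h4 | h4
        · rw [h4]; exact h3
        · rw [h4, Pi.add_apply, Pi.add_apply, h3]
          rfl
      rcases h1 with h1 | h1
      · exact key _ 0 (h1.trans h.ev.zero.symm) rfl
      · refine key _ (Pi.single i 1 + Pi.single j 1) (h1.trans ?_) ?_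
        · rw [h.ev.add]; rfl
        · rw [(tt_coord hij (1 : ZMod 2) 1).1, (tt_coord hij (1 : ZMod 2) 1).2.1]
    · exact h1
  have hsw : ∀ k l : Fin n, ε y₀ = zz ε k → ε (y₀ ∘ (Equiv.swap k l).symm) = zz ε l := by
    intro k l hk
    obtain ⟨m, -, hm⟩ := h.ev.full (Equiv.swap k l)
    rw [← hm y₀, hk]
    have := hm.single k
    rw [Equiv.swap_apply_left] at this
    exact this
  have htt10 : tt ε i j 1 0 = zz ε i := tt_one_zero i j
  have htt01 : tt ε i j 0 1 = zz ε j := tt_zero_one i j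
  have hrr : rr ε i j = tt ε i j 1 1 := rr_eq_tt h.ev i j
  obtain ⟨c₁, hc₁, hce₁⟩ := hinv (Equiv.swap i j) EE_swap
  have hfin : ∀ c ∈ centralizer (vv ε : Set G), ∃ s t, c * a * c⁻¹ = a * tt ε i j s t := by
    intro c hc
    obtain ⟨y, hy⟩ := h.br_mem hij hc haE haV
    rcases hall c hc y hy with (h1 | h1) | (h1 | h1)
    · exact ⟨0, 0, by rw [hy, h1, tt_zero h.ev]⟩
    · exact ⟨1, 1, by rw [hy, h1, hrr]⟩
    · rcases hz with h2 | h2
      · exact ⟨1, 0, by rw [hy, h1, h2, htt10]⟩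
      · exact ⟨0, 1, by rw [hy, h1, h2, htt01]⟩
    · rcases hz with h2 | h2
      · refine ⟨0, 1, ?_⟩
        rw [hy, h1, h2, hrr, ← htt10, tt_add h.ev, zmod_add_self, zero_add]
      · refine ⟨1, 0, ?_⟩
        rw [hy, h1, h2, hrr, ← htt01, tt_add h.ev, zmod_add_self, zero_add]
  refine ⟨?_, ?_, hfin⟩
  · rcases hz with h2 | h2
    · exact ⟨c₀, hc₀, by rw [hy₀, h2, htt10]⟩
    · refine ⟨c₁, hc₁, ?_⟩
      rw [hce₁, Equiv.swap_comm, hsw j i h2, htt10]
  · rcases hz with h2 | h2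
    · refine ⟨c₁, hc₁, ?_⟩
      rw [hce₁, hsw i j h2, htt01]
    · exact ⟨c₀, hc₀, by rw [hy₀, h2, htt01]⟩

/-- **`[a, c] = z_i ^ s z_j ^ t`** for `c ∈ C(V)`, all `a ∈ W - V`. -/
theorem br (hij : i ≠ j) {c : G} (hc : c ∈ centralizer (vv ε : Set G)) :
    ∃ s t, ∀ a ∈ EE ε i j, a ∉ vv ε → c * a * c⁻¹ = a * tt ε i j s t := by
  obtain ⟨x, hx, hn⟩ := h.mov i j hij
  obtain ⟨-, -, h1⟩ := h.br_aux hij hx hn
  obtain ⟨s, t, h2⟩ := h1 c hc
  exact ⟨s, t, fun a ha haV => h.br_indep hij hc (h.zz_mem_EE hx) (h.zz_notMem hij hx hn) ha haV h2⟩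

/-- **All four values occur.** -/
theorem br_surj (hij : i ≠ j) (s t : ZMod 2) :
    ∃ c ∈ centralizer (vv ε : Set G), ∀ a ∈ EE ε i j, a ∉ vv ε → c * a * c⁻¹ = a * tt ε i j s t := by
  obtain ⟨x, hx, hn⟩ := h.mov i j hij
  obtain ⟨⟨c, hc, hce⟩, ⟨d, hd, hde⟩, -⟩ := h.br_aux hij hx hn
  have key : ∀ {c : G} (s t : ZMod 2), c ∈ centralizer (vv ε : Set G) →
      c * (x * zz ε i * x⁻¹) * c⁻¹ = x * zz ε i * x⁻¹ * tt ε i j s t →
      ∃ c ∈ centralizer (vv ε : Set G), ∀ a ∈ EE ε i j, a ∉ vv ε → c * a * c⁻¹ = a * tt ε i j s t := by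
    intro c s t hc h2
    exact ⟨c, hc, fun a ha haV => h.br_indep hij hc (h.zz_mem_EE hx) (h.zz_notMem hij hx hn) ha haV h2⟩
  rcases zmod_cases s with rfl | rfl
  · rcases zmod_cases t with rfl | rfl
    · refine key (c := 1) 0 0 (one_mem _) ?_
      rw [tt_zero h.ev]
      group
    · exact key 0 1 hd hde
  · rcases zmod_cases t with rfl | rfl
    · exact key 1 0 hc hce
    · refine key (c := c * d) 1 1 (mul_mem hc hd) ?_
      have h3 := h.br_mul hc (h.tt_memV i j 0 1) hce hde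
      rw [tt_add h.ev, add_zero, zero_add] at h3
      exact h3

/-- The exponents are determined. -/
theorem br_unique (hij : i ≠ j) {c a : G} {s t s' t' : ZMod 2} (h1 : c * a * c⁻¹ = a * tt ε i j s t)
    (h2 : c * a * c⁻¹ = a * tt ε i j s' t') : s = s' ∧ t = t' :=
  tt_inj h.ev h.n3 hij (mul_left_cancel (h1.symm.trans h2))

/-- **The letters of the lines over `D_ij`.** -/
theorem letters (hij : i ≠ j) {x y : G} (hx : x ∈ XX ε i j) (hn : x ∉ normalizer (vv ε : Set G))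
    (hy : y ∈ XX ε i j) (hny : y ∉ normalizer (vv ε : Set G)) :
    ∃ s t, y * zz ε i * y⁻¹ = x * zz ε i * x⁻¹ * tt ε i j s t := by
  -- if `x⁻¹ y` normalises `V`
  have key : ∀ {x : G}, x ∈ XX ε i j → x⁻¹ * y ∈ normalizer (vv ε : Set G) →
      y * zz ε i * y⁻¹ = x * zz ε i * x⁻¹ ∨ y * zz ε i * y⁻¹ = x * zz ε i * x⁻¹ * rr ε i j := by
    intro x hx h1
    rcases h.acts_of_XX hij (mul_mem (inv_mem hx) hy) h1 with h2 | h2
    · left
      have h3 := h2.single i
      change x⁻¹ * y * zz ε i * (x⁻¹ * y)⁻¹ = zz ε i at h3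
      calc y * zz ε i * y⁻¹ = x * (x⁻¹ * y * zz ε i * (x⁻¹ * y)⁻¹) * x⁻¹ := by group
        _ = _ := by rw [h3]
    · right
      have h3 := h2.single i
      rw [Equiv.swap_apply_left] at h3
      change x⁻¹ * y * zz ε i * (x⁻¹ * y)⁻¹ = zz ε j at h3
      have h6 := h.rr_cj_of_XX hx
      rw [rr_cj] at h6
      rw [← h6]
      calc y * zz ε i * y⁻¹ = x * (x⁻¹ * y * zz ε i * (x⁻¹ * y)⁻¹) * x⁻¹ := by group
        _ = x * zz ε j * x⁻¹ := by rw [h3]
        _ = x * (zz ε i * zz ε i * zz ε j) * x⁻¹ := by rw [zz_sq h.ev, one_mul]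
        _ = _ := by simp only [rr]; group
  have hrr : rr ε i j = tt ε i j 1 1 := rr_eq_tt h.ev i j
  by_cases h1 : x⁻¹ * y ∈ normalizer (vv ε : Set G)
  · rcases key hx h1 with h2 | h2
    · exact ⟨0, 0, by rw [h2, tt_zero h.ev, mul_one]⟩
    · exact ⟨1, 1, by rw [h2, hrr]⟩
  · obtain ⟨c, hc, hce⟩ := h.br_surj hij 1 0
    have hcx : c * x ∈ XX ε i j := mul_mem (centralizer_le_XX hc) hx
    have haE := h.zz_mem_EE hx
    have haV := h.zz_notMem hij hx hn
    have hca := hce _ haE haV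
    -- `(c x)⁻¹ y` normalises `V`
    have h2 : (c * x)⁻¹ * y ∈ normalizer (vv ε : Set G) := by
      refine h.norm_of_mem hij (mul_mem (inv_mem hcx) hy) ?_
      have h3 := h.two i j hij _ haE _ (h.zz_mem_EE hy) haV (h.zz_notMem hij hy hny)
      obtain ⟨w, hw⟩ := h.ev.surj _ h3
      have hb : y * zz ε i * y⁻¹ = x * zz ε i * x⁻¹ * ε w := by
        rw [hw, ← mul_assoc, h.EE_sq _ haE, one_mul]
      have hwne : w i ≠ w j := by
        intro h4
        apply h1
        refine h.norm_of_mem hij (mul_mem (inv_mem hx) hy) ?_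
        have h5 := cj_eq_of_XX hx h4
        have e : x⁻¹ * y * zz ε i * (x⁻¹ * y)⁻¹ = zz ε i * ε w := by
          calc x⁻¹ * y * zz ε i * (x⁻¹ * y)⁻¹ = x⁻¹ * (y * zz ε i * y⁻¹) * x := by group
            _ = x⁻¹ * (x * zz ε i * x⁻¹ * cj x ε w) * x := by rw [hb, h5]
            _ = _ := by simp only [cj]; group
        rw [e]
        exact mul_mem (h.zz_memV i) (h.ev.mem w)
      -- `b = a z_i d`
      have h4 : (w + Pi.single i 1 : Fin n → ZMod 2) i = (w + Pi.single i 1 : Fin n → ZMod 2) j := by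
        rw [Pi.add_apply, Pi.add_apply, Pi.single_eq_same, Pi.single_eq_of_ne hij.symm, add_zero, zmod_ne hwne,
          add_assoc, zmod_add_self, add_zero]
      have h5 := cj_eq_of_XX hcx h4
      have h6 : ε w = tt ε i j 1 0 * cj (c * x) ε (w + Pi.single i 1) := by
        rw [h5, h.ev.add, tt_one_zero]
        change ε w = zz ε i * (ε w * zz ε i)
        rw [h.ev.comm_mem (h.ev.mem w) (h.zz_memV i), ← mul_assoc, zz_sq h.ev, one_mul]
      have e : (c * x)⁻¹ * y * zz ε i * ((c * x)⁻¹ * y)⁻¹ = zz ε i * ε (w + Pi.single i 1) := by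
        calc (c * x)⁻¹ * y * zz ε i * ((c * x)⁻¹ * y)⁻¹ = (c * x)⁻¹ * (y * zz ε i * y⁻¹) * (c * x) := by group
          _ = (c * x)⁻¹ * (x * zz ε i * x⁻¹ * tt ε i j 1 0 * cj (c * x) ε (w + Pi.single i 1)) * (c * x) := by
              rw [hb, h6, mul_assoc (x * zz ε i * x⁻¹)]
          _ = (c * x)⁻¹ * (c * (x * zz ε i * x⁻¹) * c⁻¹ * cj (c * x) ε (w + Pi.single i 1)) * (c * x) := by
              rw [hca]
          _ = _ := by simp only [cj]; group
      rw [e]
      exact mul_mem (h.zz_memV i) (h.ev.mem _)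
    have hca' : c * x * zz ε i * (c * x)⁻¹ = x * zz ε i * x⁻¹ * tt ε i j 1 0 := by
      rw [← hca]; group
    rcases key hcx h2 with h3 | h3
    · exact ⟨1, 0, by rw [h3, hca']⟩
    · refine ⟨0, 1, ?_⟩
      rw [h3, hca', hrr, mul_assoc, tt_add h.ev, zmod_add_self, zero_add]

/-- **`Γ`**: for `σ` fixing `i`, `j` some `g` acts as `σ` on all labelled lines over `D_ij`. -/
theorem gam (hij : i ≠ j) {σ : Equiv.Perm (Fin n)} (hi : σ i = i) (hj : σ j = j) :
    ∃ g, ∀ y ∈ XX ε i j, Acts (cj y ε) g σ := by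
  obtain ⟨x, hx, hn⟩ := h.mov i j hij
  obtain ⟨m, -, hm⟩ := h.ev.full σ
  set a := x * zz ε i * x⁻¹ with ha
  have haE : a ∈ EE ε i j := h.zz_mem_EE hx
  have haV : a ∉ vv ε := h.zz_notMem hij hx hn
  have hmx : m * x * m⁻¹ ∈ XX ε i j := by
    have := XX_acts hm hx
    rwa [hi, hj] at this
  have hmxn : m * x * m⁻¹ ∉ normalizer (vv ε : Set G) := by
    intro h1
    apply hn
    have h2 := h.acts_norm hm
    have h3 := mul_mem (mul_mem (inv_mem h2) h1) h2
    have e : m⁻¹ * (m * x * m⁻¹) * m = x := by group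
    rwa [e] at h3
  have hmz : m * zz ε i * m⁻¹ = zz ε i := by
    have := zz_conj hm i
    rwa [hi] at this
  have hmzj : m * zz ε j * m⁻¹ = zz ε j := by
    have := zz_conj hm j
    rwa [hj] at this
  obtain ⟨s, t, hst⟩ := h.letters hij hx hn hmx hmxn
  have hma : m * a * m⁻¹ = a * tt ε i j s t := by
    rw [ha, ← hst]
    calc m * (x * zz ε i * x⁻¹) * m⁻¹ = m * x * m⁻¹ * (m * zz ε i * m⁻¹) * (m * x * m⁻¹)⁻¹ := by group
      _ = _ := by rw [hmz]
  obtain ⟨c, hc, hce⟩ := h.br_surj hij s t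
  refine ⟨c * m, ?_⟩
  -- `c m` acts as `σ` on `ε` and centralises `a`
  have hg : Acts ε (c * m) σ := by
    have h1 : Acts ε c 1 := h.ev.acts_one_iff.2 hc
    have := h1.mul hm
    rwa [one_mul] at this
  have hga : c * m * a * (c * m)⁻¹ = a := by
    calc c * m * a * (c * m)⁻¹ = c * (m * a * m⁻¹) * c⁻¹ := by group
      _ = c * a * c⁻¹ * (c * tt ε i j s t * c⁻¹) := by rw [hma]; group
      _ = a := by
          rw [hce a haE haV, h.conj_of hc (h.tt_memV i j s t), mul_assoc, tt_add h.ev, zmod_add_self,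
            zmod_add_self, tt_zero h.ev, mul_one]
  have hgtt : ∀ s t, c * m * tt ε i j s t * (c * m)⁻¹ = tt ε i j s t := by
    intro s t
    have := tt_conj hg i j s t
    rwa [hi, hj] at this
  -- it centralises all letters
  have hglet : ∀ y ∈ XX ε i j, c * m * (y * zz ε i * y⁻¹) * (c * m)⁻¹ = y * zz ε i * y⁻¹ := by
    intro y hy
    by_cases hny : y ∈ normalizer (vv ε : Set G)
    · rcases h.acts_of_XX hij hy hny with h1 | h1
      · have h2 := h1.single i
        change y * zz ε i * y⁻¹ = zz ε i at h2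
        rw [h2, ← tt_one_zero (ε := ε) i j]
        exact hgtt 1 0
      · have h2 := h1.single i
        rw [Equiv.swap_apply_left] at h2
        change y * zz ε i * y⁻¹ = zz ε j at h2
        rw [h2, ← tt_zero_one (ε := ε) i j]
        exact hgtt 0 1
    · obtain ⟨s', t', h1⟩ := h.letters hij hx hn hy hny
      rw [h1]
      calc c * m * (x * zz ε i * x⁻¹ * tt ε i j s' t') * (c * m)⁻¹ =
          c * m * a * (c * m)⁻¹ * (c * m * tt ε i j s' t' * (c * m)⁻¹) := by rw [ha]; group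
        _ = _ := by rw [hga, hgtt]
  intro y hy w
  have hσs : ∀ w : Fin n → ZMod 2, (w ∘ σ.symm) i = w i ∧ (w ∘ σ.symm) j = w j := by
    intro w
    rw [Function.comp_apply, Function.comp_apply, σ.symm_apply_eq.2 hi.symm, σ.symm_apply_eq.2 hj.symm]
    exact ⟨rfl, rfl⟩
  have hD : ∀ w : Fin n → ZMod 2, w i = w j → c * m * cj y ε w * (c * m)⁻¹ = cj y ε (w ∘ σ.symm) := by
    intro w hw
    rw [cj_eq_of_XX hy hw, cj_eq_of_XX hy (by rw [(hσs w).1, (hσs w).2, hw])]
    exact hg w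
  by_cases hw : w i = w j
  · exact hD w hw
  · have h4 : (w + Pi.single i 1 : Fin n → ZMod 2) i = (w + Pi.single i 1 : Fin n → ZMod 2) j := by
      rw [Pi.add_apply, Pi.add_apply, Pi.single_eq_same, Pi.single_eq_of_ne hij.symm, add_zero, zmod_ne hw,
        add_assoc, zmod_add_self, add_zero]
    have hev := (h.conj y).ev
    have e1 : cj y ε w = cj y ε (w + Pi.single i 1) * (y * zz ε i * y⁻¹) := by
      change _ = cj y ε (w + Pi.single i 1) * cj y ε (Pi.single i 1)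
      rw [← hev.add, add_assoc, S5.Def.add_self, add_zero]
    have e2 : (w ∘ σ.symm) = (w + Pi.single i 1) ∘ σ.symm + Pi.single i 1 := by
      funext k
      rw [Pi.add_apply, Function.comp_apply, Function.comp_apply, Pi.add_apply, add_assoc]
      have e3 : (Pi.single i 1 : Fin n → ZMod 2) (σ.symm k) = (Pi.single i 1 : Fin n → ZMod 2) k := by
        by_cases hk : k = i
        · rw [hk, σ.symm_apply_eq.2 hi.symm]
        · have hk' : σ.symm k ≠ i := fun h5 => hk (by rw [← hi, ← h5, Equiv.apply_symm_apply])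
          rw [Pi.single_eq_of_ne hk, Pi.single_eq_of_ne hk']
      rw [e3, zmod_add_self, add_zero]
    calc c * m * cj y ε w * (c * m)⁻¹ = c * m * cj y ε (w + Pi.single i 1) * (c * m)⁻¹ *
          (c * m * (y * zz ε i * y⁻¹) * (c * m)⁻¹) := by rw [e1]; group
      _ = cj y ε ((w + Pi.single i 1) ∘ σ.symm) * cj y ε (Pi.single i 1) := by
          rw [hD _ h4, hglet y hy]; rfl
      _ = _ := by rw [← hev.add, ← e2]

end Inp

end Cfsg.Agent.Omega.NO3S.SN2.CL
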