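import Cfsg.Agent.Omega.NO3S.SN2.Path.Sit

/-!
# THEOREM CL (helper928, bb #22306, J-free form #22823): setting

`V` = a line (labelled by `ε`, `n ≥ 9` letters), `z_i = zz ε i` the heavy points, `D_ij = {ε x | x i = x j}`,
`XX ε i j = C_G(D_ij)`.

* `Ud V ε i = ⟨V^g : g ∈ C_G(z_i)⟩`, `Wd V ε i j = ⟨V^x : x ∈ XX ε i j⟩`;
* `Hv V ε i j u` : `u ∉ V` is a conjugate of `z_i` under `XX ε i j` (the four duads of `N_ij` outside `V`);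
* `Hyp V ε` : the hypotheses (UA), (CV), (LN), (b).
-/

set_option autoImplicit false
set_option linter.unusedSectionVars false

namespace Cfsg.Agent.Omega.NO3S.SN2.CL

open Subgroup Cfsg.Agent.Omega.S5.Def Cfsg.Agent.Omega.NSix.Base Cfsg.Agent.Omega.NSix.Basic
open Cfsg.Agent.Omega.NO3S.SN2.PathW (XX tt)

universe u

variable {G : Type u} [Group G] {n : ℕ}

/-- `⟨V^g : g ∈ C_G(z_i)⟩` -/
def Ud (V : Subgroup G) (ε : (Fin n → ZMod 2) → G) (i : Fin n) : Subgroup G :=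
  closure {g | ∃ x ∈ centralizer ({zz ε i} : Set G), ∃ v ∈ V, x * v * x⁻¹ = g}

/-- `⟨V^x : x ∈ C_G(D_ij)⟩` -/
def Wd (V : Subgroup G) (ε : (Fin n → ZMod 2) → G) (i j : Fin n) : Subgroup G :=
  closure {g | ∃ x ∈ XX ε i j, ∃ v ∈ V, x * v * x⁻¹ = g}

/-- A heavy element of `Wd V ε i j` outside `V`. -/
def Hv (V : Subgroup G) (ε : (Fin n → ZMod 2) → G) (i j : Fin n) (u : G) : Prop :=
  u ∉ V ∧ ∃ x ∈ XX ε i j, x * zz ε i * x⁻¹ = u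

/-- **The hypotheses of THEOREM CL.** -/
structure Hyp (V : Subgroup G) (ε : (Fin n → ZMod 2) → G) : Prop where
  nine : 9 ≤ n
  ev : EvenSet n V (normalizer (V : Set G)) ε
  ua : ∀ i, ∀ g ∈ centralizer ({zz ε i} : Set G), ∀ v ∈ V, ∀ w ∈ V,
    v * (g * w * g⁻¹) = g * w * g⁻¹ * v
  cv : ∀ i, ∀ u ∈ Ud V ε i, (∀ c ∈ centralizer (V : Set G), c * u = u * c) → u ∈ V
  ln : ∀ i j, i ≠ j → ∀ x ∈ XX ε i j, x ∉ normalizer (V : Set G) →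
    ∃ c ∈ centralizer (V : Set G), x⁻¹ * c * x ∉ normalizer (V : Set G)
  two : ∀ i j, i ≠ j → ∀ w ∈ Wd V ε i j, ∀ w' ∈ Wd V ε i j, w ∉ V → w' ∉ V → w * w' ∈ V
  mov : ∀ i j, i ≠ j → ∃ x ∈ XX ε i j, x ∉ normalizer (V : Set G)

end Cfsg.Agent.Omega.NO3S.SN2.CL
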