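import Cfsg.Agent.Omega.NO3S.SN2.Path.Sit

/-!
# THEOREM CL (helper928 #22306, #22823): the frame (helper448)

A labelled line is a map `ε : (Fin n → ZMod 2) → G` (`EvenSet`), its line is `vv ε = {ε x}`; `cj g ε` is the conjugate.

* `XX ε i j = C_G(D_ij)`, `D_ij = {ε x | x i = x j}` (`Path.Sit`);
* `EE ε i j = ⟨(vv ε)^x | x ∈ XX ε i j⟩`, `Uz ε i = ⟨(vv ε)^c | c ∈ C_G(z_i)⟩`;
* **`Inp ε`** : the hypotheses (UA), (CV), (LN), (b) of THEOREM CL, for all pairs of letters of the line;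
* `Inp.conj` : they hold for `cj g ε`;
* elementary facts: `EE` is elementary abelian, invariant under `XX` and under the elements which act on `ε` and fix or swap
  the letters, `EE (cj x ε) i j = EE ε i j` for `x ∈ XX ε i j`, ...
-/

set_option autoImplicit false

namespace Cfsg.Agent.Omega.NO3S.SN2.CL

open Subgroup Cfsg.Agent.Omega.S5.Def Cfsg.Agent.Omega.NSix.Base Cfsg.Agent.Omega.NSix.Basic
open Cfsg.Agent.Omega.NO3S.SN2.PathW
open scoped Pointwise

universe u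

variable {G : Type u} [Group G] {n : ℕ}

/-- The conjugate labelled line. -/
def cj (g : G) (ε : (Fin n → ZMod 2) → G) : (Fin n → ZMod 2) → G := fun x => g * ε x * g⁻¹

/-- The line of `ε`. -/
def vv (ε : (Fin n → ZMod 2) → G) : Subgroup G := closure (Set.range ε)

/-- `E_ij`, generated by the lines over `D_ij`. -/
def EE (ε : (Fin n → ZMod 2) → G) (i j : Fin n) : Subgroup G :=
  closure {g | ∃ x ∈ XX ε i j, ∃ v ∈ vv ε, g = x * v * x⁻¹}

/-- `U_z` for `z = z_i`. -/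
def Uz (ε : (Fin n → ZMod 2) → G) (i : Fin n) : Subgroup G :=
  closure {g | ∃ c ∈ centralizer ({zz ε i} : Set G), ∃ v ∈ vv ε, g = c * v * c⁻¹}

/-- **The hypotheses of THEOREM CL.** -/
structure Inp (ε : (Fin n → ZMod 2) → G) : Prop where
  n9 : 9 ≤ n
  ev : EvenSet n (vv ε) (normalizer (vv ε : Set G)) ε
  /-- (UA) -/
  ua : ∀ i, ∀ c ∈ centralizer ({zz ε i} : Set G), ∀ v ∈ vv ε, ∀ w ∈ vv ε,
    v * (c * w * c⁻¹) = c * w * c⁻¹ * v
  /-- (CV) -/
  cv : ∀ i, ∀ w ∈ Uz ε i, (∀ c ∈ centralizer (vv ε : Set G), c * w = w * c) → w ∈ vv ε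
  mov : ∀ i j, i ≠ j → ∃ x ∈ XX ε i j, x ∉ normalizer (vv ε : Set G)
  /-- (LN) -/
  ln : ∀ i j, i ≠ j → ∀ x ∈ XX ε i j, x ∉ normalizer (vv ε : Set G) →
    ∃ c ∈ centralizer (vv ε : Set G), x⁻¹ * c * x ∉ normalizer (vv ε : Set G)
  /-- (b) -/
  two : ∀ i j, i ≠ j → ∀ a ∈ EE ε i j, ∀ b ∈ EE ε i j, a ∉ vv ε → b ∉ vv ε → a * b ∈ vv ε

/-! ### `cj` -/

section cj

theorem cj_one (ε : (Fin n → ZMod 2) → G) : cj 1 ε = ε := by
  funext x
  simp [cj]

theorem cj_cj (g h : G) (ε : (Fin n → ZMod 2) → G) : cj g (cj h ε) = cj (g * h) ε := by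
  funext x
  simp only [cj]
  group

theorem zz_cj (g : G) (ε : (Fin n → ZMod 2) → G) (i : Fin n) : zz (cj g ε) i = g * zz ε i * g⁻¹ := rfl

theorem rr_cj (g : G) (ε : (Fin n → ZMod 2) → G) (i j : Fin n) : rr (cj g ε) i j = g * rr ε i j * g⁻¹ := by
  simp only [rr, zz_cj]
  group

theorem mem_vv_cj {g : G} {ε : (Fin n → ZMod 2) → G} {v : G} : v ∈ vv (cj g ε) ↔ g⁻¹ * v * g ∈ vv ε := by
  have key : ∀ (g : G) (ε : (Fin n → ZMod 2) → G) (v : G), v ∈ vv ε → g * v * g⁻¹ ∈ vv (cj g ε) := by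
    intro g ε v hv
    unfold vv at hv ⊢
    induction hv using closure_induction with
    | mem v hv =>
      obtain ⟨x, rfl⟩ := hv
      exact subset_closure ⟨x, rfl⟩
    | one => rw [mul_one, mul_inv_cancel]; exact one_mem _
    | mul x y _ _ hx hy =>
      have e : g * (x * y) * g⁻¹ = (g * x * g⁻¹) * (g * y * g⁻¹) := by group
      rw [e]; exact mul_mem hx hy
    | inv x _ hx =>
      have e : g * x⁻¹ * g⁻¹ = (g * x * g⁻¹)⁻¹ := by group
      rw [e]; exact inv_mem hx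
  constructor
  · intro h
    have h1 := key g⁻¹ (cj g ε) v h
    rw [cj_cj, inv_mul_cancel, cj_one, inv_inv] at h1
    exact h1
  · intro h
    have h1 := key g ε _ h
    have e : g * (g⁻¹ * v * g) * g⁻¹ = v := by group
    rwa [e] at h1

theorem conj_mem_vv {g : G} {ε : (Fin n → ZMod 2) → G} {v : G} (hv : v ∈ vv ε) : g * v * g⁻¹ ∈ vv (cj g ε) := by
  rw [mem_vv_cj]
  have e : g⁻¹ * (g * v * g⁻¹) * g = v := by group
  rwa [e]

theorem vv_cj (g : G) (ε : (Fin n → ZMod 2) → G) : vv (cj g ε) = MulAut.conj g • vv ε := by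
  ext v
  rw [mem_vv_cj, mem_smul_pointwise_iff_exists]
  constructor
  · intro h
    exact ⟨_, h, by rw [MulAut.smul_def, MulAut.conj_apply]; group⟩
  · rintro ⟨w, hw, rfl⟩
    rw [MulAut.smul_def, MulAut.conj_apply]
    have e : g⁻¹ * (g * w * g⁻¹) * g = w := by group
    rwa [e]

theorem mem_XX_cj {g : G} {ε : (Fin n → ZMod 2) → G} {i j : Fin n} {x : G} :
    x ∈ XX (cj g ε) i j ↔ g⁻¹ * x * g ∈ XX ε i j := by
  rw [mem_XX, mem_XX]
  refine forall₂_congr fun y _ => ?_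
  simp only [cj]
  constructor
  · intro h
    calc g⁻¹ * x * g * ε y = g⁻¹ * (x * (g * ε y * g⁻¹)) * g := by group
      _ = g⁻¹ * (g * ε y * g⁻¹ * x) * g := by rw [h]
      _ = _ := by group
  · intro h
    calc x * (g * ε y * g⁻¹) = g * (g⁻¹ * x * g * ε y) * g⁻¹ := by group
      _ = g * (ε y * (g⁻¹ * x * g)) * g⁻¹ := by rw [h]
      _ = _ := by group

theorem mem_centralizer_cj {g : G} {ε : (Fin n → ZMod 2) → G} {x : G} :
    x ∈ centralizer (vv (cj g ε) : Set G) ↔ g⁻¹ * x * g ∈ centralizer (vv ε : Set G) := by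
  rw [mem_centralizer_iff, mem_centralizer_iff]
  constructor
  · intro h v hv
    have h1 := h _ (conj_mem_vv (g := g) hv)
    calc v * (g⁻¹ * x * g) = g⁻¹ * (g * v * g⁻¹ * x) * g := by group
      _ = g⁻¹ * (x * (g * v * g⁻¹)) * g := by rw [h1]
      _ = _ := by group
  · intro h v hv
    have h1 := h _ (mem_vv_cj.1 hv)
    calc v * x = g * (g⁻¹ * v * g * (g⁻¹ * x * g)) * g⁻¹ := by group
      _ = g * (g⁻¹ * x * g * (g⁻¹ * v * g)) * g⁻¹ := by rw [h1]
      _ = _ := by group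

theorem mem_normalizer_cj {g : G} {ε : (Fin n → ZMod 2) → G} {x : G} :
    x ∈ normalizer (vv (cj g ε) : Set G) ↔ g⁻¹ * x * g ∈ normalizer (vv ε : Set G) := by
  rw [mem_normalizer_iff, mem_normalizer_iff]
  constructor
  · intro h v
    have h1 := h (g * v * g⁻¹)
    rw [mem_vv_cj, mem_vv_cj] at h1
    have e1 : g⁻¹ * (g * v * g⁻¹) * g = v := by group
    have e2 : g⁻¹ * (x * (g * v * g⁻¹) * x⁻¹) * g = g⁻¹ * x * g * v * (g⁻¹ * x * g)⁻¹ := by group
    rwa [e1, e2] at h1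
  · intro h v
    have h1 := h (g⁻¹ * v * g)
    rw [mem_vv_cj, mem_vv_cj]
    have e2 : g⁻¹ * x * g * (g⁻¹ * v * g) * (g⁻¹ * x * g)⁻¹ = g⁻¹ * (x * v * x⁻¹) * g := by group
    rwa [e2] at h1

theorem mem_cz_cj {g : G} {ε : (Fin n → ZMod 2) → G} {i : Fin n} {x : G} :
    x ∈ centralizer ({zz (cj g ε) i} : Set G) ↔ g⁻¹ * x * g ∈ centralizer ({zz ε i} : Set G) := by
  rw [mem_centralizer_singleton_iff, mem_centralizer_singleton_iff, zz_cj]
  constructor
  · intro h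
    calc g⁻¹ * x * g * zz ε i = g⁻¹ * (x * (g * zz ε i * g⁻¹)) * g := by group
      _ = g⁻¹ * (g * zz ε i * g⁻¹ * x) * g := by rw [h]
      _ = _ := by group
  · intro h
    calc x * (g * zz ε i * g⁻¹) = g * (g⁻¹ * x * g * zz ε i) * g⁻¹ := by group
      _ = g * (zz ε i * (g⁻¹ * x * g)) * g⁻¹ := by rw [h]
      _ = _ := by group

theorem conj_mem_EE {g : G} {ε : (Fin n → ZMod 2) → G} {i j : Fin n} {a : G} (ha : a ∈ EE ε i j) :
    g * a * g⁻¹ ∈ EE (cj g ε) i j := by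
  unfold EE at ha ⊢
  induction ha using closure_induction with
  | mem a ha =>
    obtain ⟨x, hx, v, hv, rfl⟩ := ha
    refine subset_closure ⟨g * x * g⁻¹, ?_, g * v * g⁻¹, conj_mem_vv hv, by group⟩
    rw [mem_XX_cj]
    have e : g⁻¹ * (g * x * g⁻¹) * g = x := by group
    rwa [e]
  | one => rw [mul_one, mul_inv_cancel]; exact one_mem _
  | mul x y _ _ hx hy =>
    have e : g * (x * y) * g⁻¹ = (g * x * g⁻¹) * (g * y * g⁻¹) := by group
    rw [e]; exact mul_mem hx hy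
  | inv x _ hx =>
    have e : g * x⁻¹ * g⁻¹ = (g * x * g⁻¹)⁻¹ := by group
    rw [e]; exact inv_mem hx

theorem mem_EE_cj {g : G} {ε : (Fin n → ZMod 2) → G} {i j : Fin n} {a : G} :
    a ∈ EE (cj g ε) i j ↔ g⁻¹ * a * g ∈ EE ε i j := by
  constructor
  · intro h
    have h1 := conj_mem_EE (g := g⁻¹) h
    rwa [cj_cj, inv_mul_cancel, cj_one, inv_inv] at h1
  · intro h
    have h1 := conj_mem_EE (g := g) h
    have e : g * (g⁻¹ * a * g) * g⁻¹ = a := by group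
    rwa [e] at h1

theorem conj_mem_Uz {g : G} {ε : (Fin n → ZMod 2) → G} {i : Fin n} {a : G} (ha : a ∈ Uz ε i) :
    g * a * g⁻¹ ∈ Uz (cj g ε) i := by
  unfold Uz at ha ⊢
  induction ha using closure_induction with
  | mem a ha =>
    obtain ⟨x, hx, v, hv, rfl⟩ := ha
    refine subset_closure ⟨g * x * g⁻¹, ?_, g * v * g⁻¹, conj_mem_vv hv, by group⟩
    rw [mem_cz_cj]
    have e : g⁻¹ * (g * x * g⁻¹) * g = x := by group
    rwa [e]
  | one => rw [mul_one, mul_inv_cancel]; exact one_mem _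
  | mul x y _ _ hx hy =>
    have e : g * (x * y) * g⁻¹ = (g * x * g⁻¹) * (g * y * g⁻¹) := by group
    rw [e]; exact mul_mem hx hy
  | inv x _ hx =>
    have e : g * x⁻¹ * g⁻¹ = (g * x * g⁻¹)⁻¹ := by group
    rw [e]; exact inv_mem hx

theorem mem_Uz_cj {g : G} {ε : (Fin n → ZMod 2) → G} {i : Fin n} {a : G} :
    a ∈ Uz (cj g ε) i ↔ g⁻¹ * a * g ∈ Uz ε i := by
  constructor
  · intro h
    have h1 := conj_mem_Uz (g := g⁻¹) h
    rwa [cj_cj, inv_mul_cancel, cj_one, inv_inv] at h1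
  · intro h
    have h1 := conj_mem_Uz (g := g) h
    have e : g * (g⁻¹ * a * g) * g⁻¹ = a := by group
    rwa [e] at h1

/-- `g` acts as `σ` : the conjugate labelled line is the relabelled one. -/
theorem cj_of_acts {g : G} {ε : (Fin n → ZMod 2) → G} {σ : Equiv.Perm (Fin n)} (h : Acts ε g σ) :
    cj g ε = fun x => ε (x ∘ σ.symm) := by
  funext x
  exact h x

end cj

namespace Inp

/-- **The hypotheses hold for the conjugates.** -/
theorem conj {ε : (Fin n → ZMod 2) → G} (h : Inp ε) (g : G) : Inp (cj g ε) where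
  n9 := h.n9
  ev := by
    have h1 := h.ev.conj g
    rw [vv_cj]
    refine h1.change ?_ ?_
    · intro x hx
      obtain ⟨σ, hσ⟩ := h.ev.perm (g⁻¹ * x * g) (by
        rw [← mem_normalizer_cj, vv_cj]; exact hx)
      refine ⟨σ, ?_⟩
      have h2 := hσ.conj_label g
      have e : g * (g⁻¹ * x * g) * g⁻¹ = x := by group
      rwa [e] at h2
    · intro σ
      obtain ⟨x, hx, hσ⟩ := h.ev.full σ
      refine ⟨g * x * g⁻¹, ?_, hσ.conj_label g⟩
      rw [← vv_cj, mem_normalizer_cj]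
      have e : g⁻¹ * (g * x * g⁻¹) * g = x := by group
      rwa [e]
  ua i c hc v hv w hw := by
    have h1 := h.ua i _ (mem_cz_cj.1 hc) _ (mem_vv_cj.1 hv) _ (mem_vv_cj.1 hw)
    have e1 : v * (c * w * c⁻¹) = g * (g⁻¹ * v * g * (g⁻¹ * c * g * (g⁻¹ * w * g) * (g⁻¹ * c * g)⁻¹)) * g⁻¹ := by
      group
    have e2 : c * w * c⁻¹ * v = g * (g⁻¹ * c * g * (g⁻¹ * w * g) * (g⁻¹ * c * g)⁻¹ * (g⁻¹ * v * g)) * g⁻¹ := by
      group
    rw [e1, e2, h1]
  cv i w hw hc := by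
    rw [mem_vv_cj]
    refine h.cv i _ (mem_Uz_cj.1 hw) fun c hc' => ?_
    have h1 := hc (g * c * g⁻¹) (by
      rw [mem_centralizer_cj]
      have e : g⁻¹ * (g * c * g⁻¹) * g = c := by group
      rwa [e])
    calc c * (g⁻¹ * w * g) = g⁻¹ * (g * c * g⁻¹ * w) * g := by group
      _ = g⁻¹ * (w * (g * c * g⁻¹)) * g := by rw [h1]
      _ = _ := by group
  mov i j hij := by
    obtain ⟨x, hx, hxn⟩ := h.mov i j hij
    refine ⟨g * x * g⁻¹, ?_, ?_⟩
    · rw [mem_XX_cj]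
      have e : g⁻¹ * (g * x * g⁻¹) * g = x := by group
      rwa [e]
    · rw [mem_normalizer_cj]
      have e : g⁻¹ * (g * x * g⁻¹) * g = x := by group
      rwa [e]
  ln i j hij x hx hxn := by
    rw [mem_XX_cj] at hx
    rw [mem_normalizer_cj] at hxn
    obtain ⟨c, hc, hcn⟩ := h.ln i j hij _ hx hxn
    refine ⟨g * c * g⁻¹, ?_, ?_⟩
    · rw [mem_centralizer_cj]
      have e : g⁻¹ * (g * c * g⁻¹) * g = c := by group
      rwa [e]
    · rw [mem_normalizer_cj]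
      have e : g⁻¹ * (x⁻¹ * (g * c * g⁻¹) * x) * g = (g⁻¹ * x * g)⁻¹ * c * (g⁻¹ * x * g) := by group
      rwa [e]
  two i j hij a ha b hb han hbn := by
    rw [mem_vv_cj] at han hbn ⊢
    have h1 := h.two i j hij _ (mem_EE_cj.1 ha) _ (mem_EE_cj.1 hb) han hbn
    have e : g⁻¹ * (a * b) * g = g⁻¹ * a * g * (g⁻¹ * b * g) := by group
    rwa [e]

variable {ε : (Fin n → ZMod 2) → G} (h : Inp ε)
include h

theorem n3 : 3 ≤ n := by have := h.n9; omega

theorem n5 : 5 ≤ n := by have := h.n9; omega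

/-- A letter outside a small set. -/
theorem exists_letter (s : Finset (Fin n)) (hs : s.card ≤ 8) : ∃ l, l ∉ s := by
  by_contra hcon
  push Not at hcon
  have h1 : (Finset.univ : Finset (Fin n)) ⊆ s := fun k _ => hcon k
  have h2 := Finset.card_le_card h1
  rw [Finset.card_univ, Fintype.card_fin] at h2
  have := h.n9
  omega

theorem mem_vv {v : G} : v ∈ vv ε ↔ ∃ x, ε x = v :=
  ⟨h.ev.surj v, by rintro ⟨x, rfl⟩; exact h.ev.mem x⟩

omit h in
/-- `XX ε i j ≤ C(z_l)` for `l ≠ i, j`. -/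
theorem XX_le {i j l : Fin n} (hi : l ≠ i) (hj : l ≠ j) {x : G} (hx : x ∈ XX ε i j) :
    x ∈ centralizer ({zz ε l} : Set G) := by
  rw [mem_centralizer_singleton_iff]
  refine mem_XX.1 hx _ ?_
  rw [Pi.single_eq_of_ne hi.symm, Pi.single_eq_of_ne hj.symm]

omit h in
theorem zz_cj_of_XX {i j l : Fin n} (hi : l ≠ i) (hj : l ≠ j) {x : G} (hx : x ∈ XX ε i j) :
    zz (cj x ε) l = zz ε l := by
  have h1 := mem_centralizer_singleton_iff.1 (XX_le hi hj hx)
  rw [zz_cj, h1, mul_inv_cancel_right]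

omit h in
/-- the labelled lines over `D_ij` agree on `D_ij` -/
theorem cj_eq_of_XX {i j : Fin n} {x : G} (hx : x ∈ XX ε i j) {y : Fin n → ZMod 2} (hy : y i = y j) :
    cj x ε y = ε y := by
  have h1 := mem_XX.1 hx y hy
  change x * ε y * x⁻¹ = ε y
  rw [h1, mul_inv_cancel_right]

theorem rr_comm_XX {i j : Fin n} {x : G} (hx : x ∈ XX ε i j) : x * rr ε i j = rr ε i j * x := by
  have e : rr ε i j = ε (Pi.single i 1 + Pi.single j 1) := by
    rw [h.ev.add]; rfl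
  rw [e]
  refine mem_XX.1 hx _ ?_
  by_cases hij : i = j
  · subst hij; rfl
  · rw [Pi.add_apply, Pi.add_apply, Pi.single_eq_same, Pi.single_eq_same, Pi.single_eq_of_ne hij,
      Pi.single_eq_of_ne (Ne.symm hij), zero_add, add_zero]

theorem rr_cj_of_XX {i j : Fin n} {x : G} (hx : x ∈ XX ε i j) : rr (cj x ε) i j = rr ε i j := by
  rw [rr_cj, h.rr_comm_XX hx, mul_inv_cancel_right]

omit h in
theorem centralizer_le_XX {i j : Fin n} {c : G} (hc : c ∈ centralizer (vv ε : Set G)) : c ∈ XX ε i j := by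
  rw [mem_XX]
  intro x _
  exact (mem_centralizer_iff.1 hc _ (subset_closure ⟨x, rfl⟩)).symm

omit h in
theorem vv_le_EE (i j : Fin n) : vv ε ≤ EE ε i j := fun v hv =>
  subset_closure ⟨1, one_mem _, v, hv, by group⟩

omit h in
theorem vv_le_Uz (i : Fin n) : vv ε ≤ Uz ε i := fun v hv =>
  subset_closure ⟨1, one_mem _, v, hv, by group⟩

omit h in
/-- the lines over `D_ij` are in `EE ε i j` -/
theorem vv_cj_le_EE {i j : Fin n} {x : G} (hx : x ∈ XX ε i j) : vv (cj x ε) ≤ EE ε i j := fun v hv =>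
  subset_closure ⟨x, hx, _, mem_vv_cj.1 hv, by group⟩

omit h in
/-- `EE ε i j` is `XX ε i j`-invariant. -/
theorem EE_conj {i j : Fin n} {x a : G} (hx : x ∈ XX ε i j) (ha : a ∈ EE ε i j) : x * a * x⁻¹ ∈ EE ε i j := by
  unfold EE at ha ⊢
  induction ha using closure_induction with
  | mem a ha =>
    obtain ⟨y, hy, v, hv, rfl⟩ := ha
    exact subset_closure ⟨x * y, mul_mem hx hy, v, hv, by group⟩
  | one => rw [mul_one, mul_inv_cancel]; exact one_mem _
  | mul y z _ _ hy hz =>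
    have e : x * (y * z) * x⁻¹ = (x * y * x⁻¹) * (x * z * x⁻¹) := by group
    rw [e]; exact mul_mem hy hz
  | inv y _ hy =>
    have e : x * y⁻¹ * x⁻¹ = (x * y * x⁻¹)⁻¹ := by group
    rw [e]; exact inv_mem hy

omit h in
theorem EE_cj_of_XX {i j : Fin n} {x : G} (hx : x ∈ XX ε i j) : EE (cj x ε) i j = EE ε i j := by
  ext a
  rw [mem_EE_cj]
  constructor
  · intro h1
    have h2 := EE_conj hx h1
    have e : x * (x⁻¹ * a * x) * x⁻¹ = a := by group
    rwa [e] at h2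
  · intro h1
    have h2 := EE_conj (inv_mem hx) h1
    rwa [inv_inv] at h2

omit h in
theorem XX_cj_of_XX {i j : Fin n} {x : G} (hx : x ∈ XX ε i j) : XX (cj x ε) i j = XX ε i j := by
  ext a
  rw [mem_XX_cj]
  constructor
  · intro h1
    have h2 := mul_mem (mul_mem hx h1) (inv_mem hx)
    have e : x * (x⁻¹ * a * x) * x⁻¹ = a := by group
    rwa [e] at h2
  · intro h1
    exact mul_mem (mul_mem (inv_mem hx) h1) hx

omit h in
theorem EE_symm (i j : Fin n) : EE ε i j = EE ε j i := by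
  unfold EE
  rw [XX_symm]

omit h in
/-- `EE ε i j ≤ Uz ε l`, `l ≠ i, j`. -/
theorem EE_le_Uz {i j l : Fin n} (hi : l ≠ i) (hj : l ≠ j) : EE ε i j ≤ Uz ε l := by
  unfold EE Uz
  refine closure_mono ?_
  rintro _ ⟨x, hx, v, hv, rfl⟩
  exact ⟨x, XX_le hi hj hx, v, hv, rfl⟩

omit h in
/-- `Uz` is invariant under `C(z)` -/
theorem Uz_conj {l : Fin n} {c a : G} (hc : c ∈ centralizer ({zz ε l} : Set G)) (ha : a ∈ Uz ε l) :
    c * a * c⁻¹ ∈ Uz ε l := by
  unfold Uz at ha ⊢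
  induction ha using closure_induction with
  | mem a ha =>
    obtain ⟨y, hy, v, hv, rfl⟩ := ha
    exact subset_closure ⟨c * y, mul_mem hc hy, v, hv, by group⟩
  | one => rw [mul_one, mul_inv_cancel]; exact one_mem _
  | mul y z _ _ hy hz =>
    have e : c * (y * z) * c⁻¹ = (c * y * c⁻¹) * (c * z * c⁻¹) := by group
    rw [e]; exact mul_mem hy hz
  | inv y _ hy =>
    have e : c * y⁻¹ * c⁻¹ = (c * y * c⁻¹)⁻¹ := by group
    rw [e]; exact inv_mem hy

omit h in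
theorem Uz_cj_le {l : Fin n} {c : G} (hc : c ∈ centralizer ({zz ε l} : Set G)) : Uz (cj c ε) l ≤ Uz ε l := by
  intro a ha
  have h1 := Uz_conj hc (mem_Uz_cj.1 ha)
  have e : c * (c⁻¹ * a * c) * c⁻¹ = a := by group
  rwa [e] at h1

/-- `Uz ε l` is commutative. -/
theorem Uz_comm (l : Fin n) : ∀ a ∈ Uz ε l, ∀ b ∈ Uz ε l, a * b = b * a := by
  have h1 : ∀ c ∈ centralizer ({zz ε l} : Set G), ∀ d ∈ centralizer ({zz ε l} : Set G), ∀ v ∈ vv ε, ∀ w ∈ vv ε,
      c * v * c⁻¹ * (d * w * d⁻¹) = d * w * d⁻¹ * (c * v * c⁻¹) := by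
    intro c hc d hd v hv w hw
    have h2 := h.ua l (c⁻¹ * d) (mul_mem (inv_mem hc) hd) v hv w hw
    calc c * v * c⁻¹ * (d * w * d⁻¹) = c * (v * (c⁻¹ * d * w * (c⁻¹ * d)⁻¹)) * c⁻¹ := by group
      _ = c * (c⁻¹ * d * w * (c⁻¹ * d)⁻¹ * v) * c⁻¹ := by rw [h2]
      _ = _ := by group
  have h2 : Uz ε l ≤ centralizer (Uz ε l : Set G) := by
    have h3 : Uz ε l ≤ centralizer {g | ∃ c ∈ centralizer ({zz ε l} : Set G), ∃ v ∈ vv ε, g = c * v * c⁻¹} := by
      unfold Uz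
      rw [closure_le]
      rintro _ ⟨d, hd, w, hw, rfl⟩
      rw [SetLike.mem_coe, mem_centralizer_iff]
      rintro _ ⟨c, hc, v, hv, rfl⟩
      exact h1 c hc d hd v hv w hw
    refine h3.trans ?_
    rw [show centralizer (Uz ε l : Set G) = centralizer {g | ∃ c ∈ centralizer ({zz ε l} : Set G), ∃ v ∈ vv ε,
      g = c * v * c⁻¹} from by unfold Uz; exact centralizer_closure _]
  intro a ha b hb
  exact (mem_centralizer_iff.1 (h2 ha) b hb).symm

/-- `Uz ε l` has exponent 2. -/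
theorem Uz_sq (l : Fin n) : ∀ a ∈ Uz ε l, a * a = 1 := by
  intro a ha
  have hc := h.Uz_comm l
  have key : ∀ a ∈ Uz ε l, a ∈ Uz ε l ∧ a * a = 1 := by
    intro a ha
    unfold Uz at ha
    induction ha using closure_induction with
    | mem a ha =>
      refine ⟨subset_closure ha, ?_⟩
      obtain ⟨y, hy, v, hv, rfl⟩ := ha
      calc y * v * y⁻¹ * (y * v * y⁻¹) = y * (v * v) * y⁻¹ := by group
        _ = 1 := by rw [h.ev.sq_mem hv]; group
    | one => exact ⟨one_mem _, one_mul _⟩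
    | mul y z _ _ hy hz =>
      refine ⟨mul_mem hy.1 hz.1, ?_⟩
      calc y * z * (y * z) = y * (z * y) * z := by group
        _ = y * (y * z) * z := by rw [hc z hz.1 y hy.1]
        _ = (y * y) * (z * z) := by group
        _ = 1 := by rw [hy.2, hz.2, one_mul]
    | inv y _ hy =>
      refine ⟨inv_mem hy.1, ?_⟩
      rw [← mul_inv_rev, hy.2, inv_one]
  exact (key a ha).2

theorem EE_comm {i j : Fin n} : ∀ a ∈ EE ε i j, ∀ b ∈ EE ε i j, a * b = b * a := by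
  obtain ⟨l, hl⟩ := h.exists_letter {i, j} (Finset.card_le_two.trans (by norm_num))
  simp only [Finset.mem_insert, Finset.mem_singleton, not_or] at hl
  exact fun a ha b hb => h.Uz_comm l a (EE_le_Uz hl.1 hl.2 ha) b (EE_le_Uz hl.1 hl.2 hb)

theorem EE_sq {i j : Fin n} : ∀ a ∈ EE ε i j, a * a = 1 := by
  obtain ⟨l, hl⟩ := h.exists_letter {i, j} (Finset.card_le_two.trans (by norm_num))
  simp only [Finset.mem_insert, Finset.mem_singleton, not_or] at hl
  exact fun a ha => h.Uz_sq l a (EE_le_Uz hl.1 hl.2 ha)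

omit h in
/-- Elements which act as `σ` map `XX ε i j` to `XX ε (σ i) (σ j)`. -/
theorem XX_acts {i j : Fin n} {g x : G} {σ : Equiv.Perm (Fin n)} (hg : Acts ε g σ) (hx : x ∈ XX ε i j) :
    g * x * g⁻¹ ∈ XX ε (σ i) (σ j) := by
  rw [mem_XX]
  intro y hy
  have h1 := mem_XX.1 hx (y ∘ σ) (by simpa using hy)
  have h2 := hg (y ∘ σ)
  have e : (y ∘ σ) ∘ σ.symm = y := by
    funext i
    simp
  rw [e] at h2
  rw [← h2]
  calc g * x * g⁻¹ * (g * ε (y ∘ σ) * g⁻¹) = g * (x * ε (y ∘ σ)) * g⁻¹ := by group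
    _ = g * (ε (y ∘ σ) * x) * g⁻¹ := by rw [h1]
    _ = _ := by group

theorem acts_norm {g : G} {σ : Equiv.Perm (Fin n)} (hg : Acts ε g σ) : g ∈ normalizer (vv ε : Set G) := by
  have key : ∀ {g : G} {σ : Equiv.Perm (Fin n)}, Acts ε g σ → ∀ v ∈ vv ε, g * v * g⁻¹ ∈ vv ε := by
    intro g σ hg v hv
    obtain ⟨x, rfl⟩ := h.ev.surj v hv
    rw [hg x]
    exact h.ev.mem _
  rw [mem_normalizer_iff]
  refine fun v => ⟨key hg v, fun hv => ?_⟩
  have h1 := key hg.inv _ hv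
  have h2 : g⁻¹ * (g * v * g⁻¹) * g⁻¹⁻¹ = v := by group
  rwa [h2] at h1

theorem EE_acts {i j : Fin n} {g a : G} {σ : Equiv.Perm (Fin n)} (hg : Acts ε g σ) (ha : a ∈ EE ε i j) :
    g * a * g⁻¹ ∈ EE ε (σ i) (σ j) := by
  unfold EE at ha ⊢
  induction ha using closure_induction with
  | mem a ha =>
    obtain ⟨y, hy, v, hv, rfl⟩ := ha
    exact subset_closure ⟨g * y * g⁻¹, XX_acts hg hy, g * v * g⁻¹,
      (mem_normalizer_iff.1 (h.acts_norm hg) v).1 hv, by group⟩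
  | one => rw [mul_one, mul_inv_cancel]; exact one_mem _
  | mul y z _ _ hy hz =>
    have e : g * (y * z) * g⁻¹ = (g * y * g⁻¹) * (g * z * g⁻¹) := by group
    rw [e]; exact mul_mem hy hz
  | inv y _ hy =>
    have e : g * y⁻¹ * g⁻¹ = (g * y * g⁻¹)⁻¹ := by group
    rw [e]; exact inv_mem hy

theorem notMem_acts {g a : G} {σ : Equiv.Perm (Fin n)} (hg : Acts ε g σ) (ha : a ∉ vv ε) :
    g * a * g⁻¹ ∉ vv ε := fun h1 => ha ((mem_normalizer_iff.1 (h.acts_norm hg) a).2 h1)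

/-- There is an element of `EE ε i j` outside the line. -/
theorem exists_notMem {i j : Fin n} (hij : i ≠ j) : ∃ a ∈ EE ε i j, a ∉ vv ε := by
  by_contra hcon
  push Not at hcon
  obtain ⟨x, hx, hxn⟩ := h.mov i j hij
  apply hxn
  have key : ∀ {x : G}, x ∈ XX ε i j → ∀ v ∈ vv ε, x * v * x⁻¹ ∈ vv ε := fun {x} hx v hv =>
    hcon _ (subset_closure ⟨x, hx, v, hv, rfl⟩)
  rw [mem_normalizer_iff]
  refine fun v => ⟨key hx v, fun hv => ?_⟩
  have h1 := key (inv_mem hx) _ hv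
  have h2 : x⁻¹ * (x * v * x⁻¹) * x⁻¹⁻¹ = v := by group
  rwa [h2] at h1

end Inp

end Cfsg.Agent.Omega.NO3S.SN2.CL
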