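import Cfsg.Agent.Omega.NO3S.SN2.CL.Def

/-!
# THEOREM CL: the output of section 0 (to be proved from `Hyp V ε` in `CL/Zero.lean`)
-/

set_option autoImplicit false
set_option linter.unusedSectionVars false

namespace Cfsg.Agent.Omega.NO3S.SN2.CL

open Subgroup Cfsg.Agent.Omega.S5.Def Cfsg.Agent.Omega.NSix.Base Cfsg.Agent.Omega.NSix.Basic
open Cfsg.Agent.Omega.NO3S.SN2.PathW (XX tt)

universe u

variable {G : Type u} [Group G] {n : ℕ}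

/-- **Section 0 of THEOREM CL.** -/
structure Zr (V : Subgroup G) (ε : (Fin n → ZMod 2) → G) : Prop where
  hyp : Hyp V ε
  comm : ∀ i j, i ≠ j → ∀ x ∈ Wd V ε i j, ∀ y ∈ Wd V ε i j, x * y = y * x
  sq : ∀ i j, i ≠ j → ∀ x ∈ Wd V ε i j, x * x = 1
  le_Ud : ∀ i j k, i ≠ j → k ≠ i → k ≠ j → Wd V ε i j ≤ Ud V ε k
  V_le : ∀ i j, V ≤ Wd V ε i j
  symm : ∀ i j, Wd V ε i j = Wd V ε j i
  nor : ∀ i j, ∀ g ∈ XX ε i j, ∀ w ∈ Wd V ε i j, g * w * g⁻¹ ∈ Wd V ε i j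
  conj : ∀ (g : G) (σ : Equiv.Perm (Fin n)), Acts ε g σ → ∀ i j, ∀ w ∈ Wd V ε i j,
    g * w * g⁻¹ ∈ Wd V ε (σ i) (σ j)
  hconj : ∀ (g : G) (σ : Equiv.Perm (Fin n)), Acts ε g σ → ∀ i j u, Hv V ε i j u →
    Hv V ε (σ i) (σ j) (g * u * g⁻¹)
  nx : ∀ i j, i ≠ j → ∀ y ∈ XX ε i j, y ∈ normalizer (V : Set G) →
    y ∈ centralizer (V : Set G) ∨ Acts ε y (Equiv.swap i j)
  sw : ∀ i j, i ≠ j → ∃ y ∈ XX ε i j, Acts ε y (Equiv.swap i j)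
  hsymm : ∀ i j u, i ≠ j → Hv V ε i j u → Hv V ε j i u
  hex : ∀ i j, i ≠ j → ∃ u, Hv V ε i j u
  hmem : ∀ i j u, i ≠ j → Hv V ε i j u → u ∈ Wd V ε i j
  hv : ∀ i j u u', i ≠ j → Hv V ε i j u → Hv V ε i j u' → ∃ a b, u' = u * tt ε i j a b
  htt : ∀ i j u, i ≠ j → Hv V ε i j u → ∀ a b, Hv V ε i j (u * tt ε i j a b)
  br : ∀ i j, i ≠ j → ∀ c ∈ centralizer (V : Set G), ∃ a b, ∀ u ∈ Wd V ε i j, u ∉ V →
    c * u * c⁻¹ = u * tt ε i j a b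
  onto : ∀ i j, i ≠ j → ∀ a b, ∃ c ∈ centralizer (V : Set G), ∀ u ∈ Wd V ε i j, u ∉ V →
    c * u * c⁻¹ = u * tt ε i j a b
  ti : ∀ i j, i ≠ j → ∀ x ∈ XX ε i j, x ∉ normalizer (V : Set G) → ∀ y, x * ε y * x⁻¹ ∈ V → y i = y j
  lin : ∀ i j, i ≠ j → ∀ x ∈ XX ε i j, x ∉ normalizer (V : Set G) → ∀ c ∈ centralizer (V : Set G), ∀ a b,
    c * (x * zz ε i * x⁻¹) * c⁻¹ = x * zz ε i * x⁻¹ * tt ε i j a b →
      (x⁻¹ * c * x ∈ normalizer (V : Set G) ↔ a = b)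

end Cfsg.Agent.Omega.NO3S.SN2.CL
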