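import Mathlib

/-!
# SN.Two, THEOREM CL (helper928, #22306, #22823), section 2

`ε : (ι → F₂) → G` is a line `V` (kernel: the constant functions), `z_i = ε (single i 1)`, `p ≠ q` two letters,
`X = C_G(D)`, `D = {ε a : a p = a q}`; `H i j u` : `u` is a heavy vector of `E_ij` outside `V`.

* `Fr` : the situation;
* `Fr.typeTwo` : TYPE II: if an element `t` of `C_G(V)` swaps the two other lines of `E_pq` and the classes
  `u' (t u' t⁻¹) E_pq` do not depend on the letter then `X` normalises `UV = ⟨V, all H i j⟩`;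
* `Fr.typeOne` : TYPE I: if `[UV, t]` has at most 4 elements then `t` moves a neighbour with type II.
-/

set_option autoImplicit false
set_option linter.unusedSectionVars false
set_option linter.style.haveILetI false

namespace Cfsg.Agent.Omega.NO3S.SN2.CL.SecTwo

open Subgroup

universe u w

variable {G : Type u} [Group G] {ι : Type w} [DecidableEq ι] [Fintype ι]

/-! ### A lemma on commutators -/

/-- `a · tat⁻¹` is centralised by `C` -/
theorem core (C : Subgroup G) (D : Set G) (sw : G → Prop) (a : G)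
    (hD : ∀ c ∈ C, ∀ d ∈ D, c * d = d * c)
    (h2 : ∀ t ∈ C, sw t → (t * t) * a = a * (t * t))
    (h3 : ∀ k ∈ C, ¬ sw k → ∃ d ∈ D, k * a * k⁻¹ = a * d)
    (h4 : ∀ t ∈ C, ∀ t' ∈ C, sw t → sw t' → ¬ sw (t⁻¹ * t'))
    (h4' : ∀ t ∈ C, ∀ k ∈ C, sw t → ¬ sw k → sw (t * k))
    (h5 : ∀ t ∈ C, a * (t * a * t⁻¹) = (t * a * t⁻¹) * a)
    {t : G} (ht : t ∈ C) (hs : sw t) : ∀ c ∈ C, c * (a * (t * a * t⁻¹)) = (a * (t * a * t⁻¹)) * c := by
  -- a swapper centralises its own product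
  have hown : ∀ t ∈ C, sw t → t * (a * (t * a * t⁻¹)) = (a * (t * a * t⁻¹)) * t := by
    intro t ht hs
    calc t * (a * (t * a * t⁻¹)) = (t * a * t⁻¹) * ((t * t) * a) * t⁻¹ := by group
      _ = (t * a * t⁻¹) * (a * (t * t)) * t⁻¹ := by rw [h2 t ht hs]
      _ = ((t * a * t⁻¹) * a) * t := by group
      _ = (a * (t * a * t⁻¹)) * t := by rw [h5 t ht]
  have hsw : ∀ t' ∈ C, sw t' → t' * (a * (t * a * t⁻¹)) = (a * (t * a * t⁻¹)) * t' := by
    intro t' ht' hs'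
    have hk : t⁻¹ * t' ∈ C := mul_mem (inv_mem ht) ht'
    obtain ⟨d, hd, hkd⟩ := h3 _ hk (h4 t ht t' ht' hs hs')
    have e : t' * a * t'⁻¹ = (t * a * t⁻¹) * d := by
      calc t' * a * t'⁻¹ = t * ((t⁻¹ * t') * a * (t⁻¹ * t')⁻¹) * t⁻¹ := by group
        _ = t * a * (d * t⁻¹) := by rw [hkd]; group
        _ = t * a * (t⁻¹ * d) := by rw [← hD _ (inv_mem ht) d hd]
        _ = (t * a * t⁻¹) * d := by group
    have h1 := hown t' ht' hs'
    rw [e] at h1
    have h6 : t' * (a * (t * a * t⁻¹)) * d = (a * (t * a * t⁻¹)) * t' * d := by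
      calc t' * (a * (t * a * t⁻¹)) * d = t' * (a * (t * a * t⁻¹ * d)) := by group
        _ = a * (t * a * t⁻¹ * d) * t' := h1
        _ = (a * (t * a * t⁻¹)) * (d * t') := by group
        _ = (a * (t * a * t⁻¹)) * (t' * d) := by rw [hD _ ht' d hd]
        _ = (a * (t * a * t⁻¹)) * t' * d := by group
    exact mul_right_cancel h6
  intro c hc
  by_cases hsc : sw c
  · exact hsw c hc hsc
  · have h1 := hsw _ (mul_mem ht hc) (h4' t ht c hc hs hsc)
    have h2' := hsw t ht hs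
    have h3' : t * (c * (a * (t * a * t⁻¹))) = t * ((a * (t * a * t⁻¹)) * c) := by
      calc t * (c * (a * (t * a * t⁻¹))) = t * c * (a * (t * a * t⁻¹)) := by group
        _ = (a * (t * a * t⁻¹)) * (t * c) := h1
        _ = ((a * (t * a * t⁻¹)) * t) * c := by group
        _ = t * ((a * (t * a * t⁻¹)) * c) := by rw [← h2']; group
    exact mul_left_cancel h3'

/-! ### Abelian groups of exponent 2 -/

theorem ac_aux1 {A : Type*} [CommGroup A] (hs : ∀ a : A, a * a = 1) (u v a b c d : A) :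
    (c * u) * (d * v) = ((u * a) * (v * b)) * ((a * c) * (b * d)) := by
  have e : ((u * a) * (v * b)) * ((a * c) * (b * d)) = ((c * u) * (d * v)) * ((a * a) * (b * b)) := by ac_rfl
  rw [e, hs, hs, mul_one, mul_one]

theorem ac_aux2 {A : Type*} [CommGroup A] (hs : ∀ a : A, a * a = 1) (u v a b c d e f : A) :
    (c * u) * (d * v) = (((u * a) * (v * b)) * ((c * e) * (d * f))) * ((a * e) * (b * f)) := by
  have e : (((u * a) * (v * b)) * ((c * e) * (d * f))) * ((a * e) * (b * f)) =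
      ((c * u) * (d * v)) * (((a * a) * (b * b)) * ((e * e) * (f * f))) := by ac_rfl
  rw [e]
  simp only [hs, mul_one]

section sub

variable {A : Subgroup G} (ab : ∀ x ∈ A, ∀ y ∈ A, x * y = y * x) (sq : ∀ x ∈ A, x * x = 1)

/-- the abelian group -/
@[reducible] def cg {A : Subgroup G} (ab : ∀ x ∈ A, ∀ y ∈ A, x * y = y * x) : CommGroup A :=
  { (inferInstance : Group A) with mul_comm := fun a b => Subtype.ext (ab _ a.2 _ b.2) }

include ab sq

theorem ac1 {u v a b c d : G} (hu : u ∈ A) (hv : v ∈ A) (ha : a ∈ A) (hb : b ∈ A) (hc : c ∈ A) (hd : d ∈ A) :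
    (c * u) * (d * v) = ((u * a) * (v * b)) * ((a * c) * (b * d)) := by
  letI := cg ab
  have h := ac_aux1 (A := A) (fun a => Subtype.ext (sq _ a.2)) ⟨u, hu⟩ ⟨v, hv⟩ ⟨a, ha⟩ ⟨b, hb⟩ ⟨c, hc⟩ ⟨d, hd⟩
  exact congrArg Subtype.val h

theorem ac2 {u v a b c d e f : G} (hu : u ∈ A) (hv : v ∈ A) (ha : a ∈ A) (hb : b ∈ A) (hc : c ∈ A) (hd : d ∈ A)
    (he : e ∈ A) (hf : f ∈ A) :
    (c * u) * (d * v) = (((u * a) * (v * b)) * ((c * e) * (d * f))) * ((a * e) * (b * f)) := by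
  letI := cg ab
  have h := ac_aux2 (A := A) (fun a => Subtype.ext (sq _ a.2)) ⟨u, hu⟩ ⟨v, hv⟩ ⟨a, ha⟩ ⟨b, hb⟩ ⟨c, hc⟩ ⟨d, hd⟩
    ⟨e, he⟩ ⟨f, hf⟩
  exact congrArg Subtype.val h

end sub

/-! ### The situation -/

/-- **The situation** of section 2 -/
structure Fr (ε : (ι → ZMod 2) → G) (X : Subgroup G) (U : ι → Subgroup G) (H : ι → ι → G → Prop) (p q : ι) :
    Prop where
  pq : p ≠ q
  nine : 9 ≤ Fintype.card ι
  add : ∀ a b, ε (a + b) = ε a * ε b
  ker : ∀ a, ε a = 1 → a = 0 ∨ a = 1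
  XD : ∀ x ∈ X, ∀ a : ι → ZMod 2, a p = a q → x * ε a = ε a * x
  cX : ∀ c, (∀ a, c * ε a = ε a * c) → c ∈ X
  perm : ∀ x, (∀ a, ∃ b, x * ε a * x⁻¹ = ε b) → ∃ σ : Equiv.Perm ι, ∀ a, x * ε a * x⁻¹ = ε (a ∘ σ.symm)
  symH : ∀ i j u, H i j u → H j i u
  exH : ∀ i j, i ≠ j → ∃ u, H i j u
  nV : ∀ i j u, H i j u → ∀ a, u ≠ ε a
  act : ∀ (m : G) (σ : Equiv.Perm ι), (∀ a, m * ε a * m⁻¹ = ε (a ∘ σ.symm)) → ∀ i j u, H i j u →
    H (σ i) (σ j) (m * u * m⁻¹)
  eta : ∀ c, (∀ a, c * ε a = ε a * c) → ∃ η : ι → ZMod 2, ∀ i j, i ≠ j → ∀ u, H i j u →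
    c * u * c⁻¹ = u * ε (Pi.single i (η i) + Pi.single j (η j))
  k1 : ∀ i j k, i ≠ j → i ≠ k → j ≠ k → ∀ u v w, H i j u → H i k v → H j k w → ∃ a, u * v * w = ε a
  uU : ∀ i j m, m ≠ i → m ≠ j → ∀ u, H i j u → u ∈ U m
  εU : ∀ a m, ε a ∈ U m
  ab : ∀ m, ∀ x ∈ U m, ∀ y ∈ U m, x * y = y * x
  sq : ∀ m, ∀ x ∈ U m, x * x = 1
  XU : ∀ x ∈ X, ∀ m, m ≠ p → m ≠ q → ∀ w ∈ U m, x * w * x⁻¹ ∈ U m
  CV : ∀ m, ∀ w ∈ U m, (∀ c, (∀ a, c * ε a = ε a * c) → c * w = w * c) → ∃ a, w = ε a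
  lin : ∀ x ∈ X, (∃ a, x * ε (Pi.single p 1) * x⁻¹ = ε a) ∨ H p q (x * ε (Pi.single p 1) * x⁻¹)
  linH : ∀ x ∈ X, ∀ u, H p q u → (∃ a, x * u * x⁻¹ = ε a) ∨ H p q (x * u * x⁻¹)

theorem fadd (a : ι → ZMod 2) : a + a = 0 := by
  funext i
  exact CharTwo.add_self_eq_zero _

theorem z2a : ∀ s : ZMod 2, s ≠ 0 → s = 1 := by decide

theorem z2b : ∀ s s' : ZMod 2, s ≠ s' → s + s' = 1 := by decide

theorem exists_ne4 (h : 9 ≤ Fintype.card ι) (i j k l : ι) : ∃ m : ι, m ≠ i ∧ m ≠ j ∧ m ≠ k ∧ m ≠ l := by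
  by_contra hc
  push Not at hc
  have h1 : (Finset.univ : Finset ι) ⊆ {i, j, k, l} := by
    intro m _
    simp only [Finset.mem_insert, Finset.mem_singleton]
    by_cases h1 : m = i
    · exact Or.inl h1
    by_cases h2 : m = j
    · exact Or.inr (Or.inl h2)
    by_cases h3 : m = k
    · exact Or.inr (Or.inr (Or.inl h3))
    · exact Or.inr (Or.inr (Or.inr (hc m h1 h2 h3)))
  have h2 := Finset.card_le_card h1
  have h3 : ({i, j, k, l} : Finset ι).card ≤ 4 := Finset.card_le_four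
  rw [Finset.card_univ] at h2
  omega

namespace Fr

variable {ε : (ι → ZMod 2) → G} {X : Subgroup G} {U : ι → Subgroup G} {H : ι → ι → G → Prop} {p q : ι}
variable (h : Fr ε X U H p q)

include h

theorem zero : ε 0 = 1 := by
  have h1 := h.add 0 0
  rw [add_zero] at h1
  exact (mul_eq_left.1 h1.symm)

theorem sqε (a : ι → ZMod 2) : ε a * ε a = 1 := by rw [← h.add, fadd, h.zero]

theorem invε (a : ι → ZMod 2) : (ε a)⁻¹ = ε a := inv_eq_of_mul_eq_one_left (h.sqε a)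

theorem cε (a b : ι → ZMod 2) : ε a * ε b = ε b * ε a := by rw [← h.add, ← h.add, add_comm]

theorem gaa (g : G) (a b : ι → ZMod 2) : g * ε a * ε (a + b) = g * ε b := by
  rw [mul_assoc, ← h.add, ← add_assoc, fadd, zero_add]

/-- the letters give independent elements -/
theorem ker_of {a : ι → ZMod 2} (ha : ε a = 1) {m : ι} (hm : a m = 0) : a = 0 := by
  rcases h.ker a ha with h1 | h1
  · exact h1
  · rw [h1] at hm
    exact absurd hm (by simp)

theorem eq_of {a b : ι → ZMod 2} (hab : ε a = ε b) {m : ι} (hm : a m = b m) : a = b := by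
  have h1 : ε (a + b) = 1 := by rw [h.add, hab, h.sqε]
  have h2 := h.ker_of h1 (m := m) (by
    rw [Pi.add_apply, hm]
    exact CharTwo.add_self_eq_zero _)
  funext i
  have h3 := congrFun h2 i
  rw [Pi.add_apply, Pi.zero_apply] at h3
  exact CharTwo.add_eq_zero.1 h3

/-- two heavy vectors of the same plane -/
theorem idx {i j : ι} (hij : i ≠ j) {u v : G} (hu : H i j u) (hv : H i j v) : ∃ a, u * v = ε a := by
  obtain ⟨k, hk1, hk2, -, -⟩ := exists_ne4 h.nine i j j j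
  obtain ⟨m, hm1, hm2, hm3, -⟩ := exists_ne4 h.nine i j k k
  obtain ⟨w, hw⟩ := h.exH i k hk1.symm
  obtain ⟨y, hy⟩ := h.exH j k hk2.symm
  obtain ⟨a, ha⟩ := h.k1 i j k hij hk1.symm hk2.symm u w y hu hw hy
  obtain ⟨b, hb⟩ := h.k1 i j k hij hk1.symm hk2.symm v w y hv hw hy
  have hu' := h.uU i j m hm1 hm2 u hu
  have hv' := h.uU i j m hm1 hm2 v hv
  have hw' := h.uU i k m hm1 hm3 w hw
  have hy' := h.uU j k m hm2 hm3 y hy
  refine ⟨a + b, ?_⟩
  rw [h.add, ← ha, ← hb]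
  have e1 : (w * y) * (w * y) = 1 := h.sq m _ (mul_mem hw' hy')
  have e2 : v * (w * y) = (w * y) * v := h.ab m _ hv' _ (mul_mem hw' hy')
  calc u * v = u * ((w * y) * (w * y)) * v := by rw [e1, mul_one]
    _ = u * (w * y) * ((w * y) * v) := by group
    _ = u * (w * y) * (v * (w * y)) := by rw [e2]
    _ = u * w * y * (v * w * y) := by group

/-! ### The plane `W = E_pq` -/

/-- `W = E_pq` -/
def W : Subgroup G where
  carrier := {g | (∃ a, g = ε a) ∨ ∃ u a, H p q u ∧ g = u * ε a}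
  one_mem' := Or.inl ⟨0, h.zero.symm⟩
  mul_mem' := by
    obtain ⟨m, hm1, hm2, -, -⟩ := exists_ne4 h.nine p q q q
    rintro x y (⟨a, rfl⟩ | ⟨u, a, hu, rfl⟩) (⟨b, rfl⟩ | ⟨v, b, hv, rfl⟩)
    · exact Or.inl ⟨a + b, (h.add a b).symm⟩
    · refine Or.inr ⟨v, a + b, hv, ?_⟩
      rw [h.add, ← mul_assoc, ← mul_assoc, h.ab m _ (h.εU a m) _ (h.uU p q m hm1 hm2 v hv)]
    · exact Or.inr ⟨u, a + b, hu, by rw [h.add, mul_assoc]⟩
    · obtain ⟨c, hc⟩ := h.idx h.pq hu hv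
      refine Or.inl ⟨c + (a + b), ?_⟩
      rw [h.add, h.add, ← hc]
      calc u * ε a * (v * ε b) = u * (ε a * v) * ε b := by group
        _ = u * (v * ε a) * ε b := by rw [h.ab m _ (h.εU a m) _ (h.uU p q m hm1 hm2 v hv)]
        _ = u * v * (ε a * ε b) := by group
  inv_mem' := by
    obtain ⟨m, hm1, hm2, -, -⟩ := exists_ne4 h.nine p q q q
    rintro x (⟨a, rfl⟩ | ⟨u, a, hu, rfl⟩)
    · exact Or.inl ⟨a, h.invε a⟩
    · refine Or.inr ⟨u, a, hu, ?_⟩
      have hu' := h.uU p q m hm1 hm2 u hu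
      have e : u⁻¹ = u := inv_eq_of_mul_eq_one_left (h.sq m u hu')
      rw [mul_inv_rev, h.invε, e]
      exact h.ab m _ (h.εU a m) _ hu'

theorem mem_W {g : G} : g ∈ h.W ↔ (∃ a, g = ε a) ∨ ∃ u a, H p q u ∧ g = u * ε a := Iff.rfl

theorem ε_mem_W (a : ι → ZMod 2) : ε a ∈ h.W := Or.inl ⟨a, rfl⟩

theorem H_mem_W {u : G} (hu : H p q u) : u ∈ h.W := Or.inr ⟨u, 0, hu, by rw [h.zero, mul_one]⟩

theorem W_le_U {m : ι} (hp : m ≠ p) (hq : m ≠ q) {g : G} (hg : g ∈ h.W) : g ∈ U m := by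
  rcases hg with ⟨a, rfl⟩ | ⟨u, a, hu, rfl⟩
  · exact h.εU a m
  · exact mul_mem (h.uU p q m hp hq u hu) (h.εU a m)

/-- `a` or `a + single p 1` is in `D` -/
theorem split (a : ι → ZMod 2) (ha : a p ≠ a q) : ∃ d : ι → ZMod 2, d p = d q ∧ a = Pi.single p 1 + d := by
  refine ⟨Pi.single p 1 + a, ?_, ?_⟩
  · rw [Pi.add_apply, Pi.add_apply, Pi.single_eq_same, Pi.single_eq_of_ne h.pq.symm, zero_add]
    generalize a p = s at ha ⊢
    generalize a q = t at ha ⊢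
    revert s t
    decide
  · rw [← add_assoc, fadd, zero_add]

theorem W_conj {x g : G} (hx : x ∈ X) (hg : g ∈ h.W) : x * g * x⁻¹ ∈ h.W := by
  have key : ∀ a, x * ε a * x⁻¹ ∈ h.W := by
    intro a
    by_cases ha : a p = a q
    · rw [h.XD x hx a ha, mul_inv_cancel_right]
      exact h.ε_mem_W a
    · obtain ⟨d, hd, rfl⟩ := h.split a ha
      have e : x * ε (Pi.single p 1 + d) * x⁻¹ = (x * ε (Pi.single p 1) * x⁻¹) * ε d := by
        rw [h.add]
        calc x * (ε (Pi.single p 1) * ε d) * x⁻¹ = x * ε (Pi.single p 1) * x⁻¹ * (x * ε d) * x⁻¹ := by group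
          _ = x * ε (Pi.single p 1) * x⁻¹ * (ε d * x) * x⁻¹ := by rw [h.XD x hx d hd]
          _ = (x * ε (Pi.single p 1) * x⁻¹) * ε d := by group
      rw [e]
      rcases h.lin x hx with ⟨b, hb⟩ | h1
      · rw [hb]
        exact mul_mem (h.ε_mem_W b) (h.ε_mem_W d)
      · exact mul_mem (h.H_mem_W h1) (h.ε_mem_W d)
  rcases hg with ⟨a, rfl⟩ | ⟨u, a, hu, rfl⟩
  · exact key a
  · have e : x * (u * ε a) * x⁻¹ = (x * u * x⁻¹) * (x * ε a * x⁻¹) := by group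
    rw [e]
    refine mul_mem ?_ (key a)
    rcases h.linH x hx u hu with ⟨b, hb⟩ | h1
    · rw [hb]
      exact h.ε_mem_W b
    · exact h.H_mem_W h1

/-! ### The normaliser of the line in `X` -/

/-- an element of `X` which maps `z_p` into `V` acts on the line as `1` or `(p q)` -/
theorem nX {x : G} (hx : x ∈ X) {b : ι → ZMod 2} (hb : x * ε (Pi.single p 1) * x⁻¹ = ε b) :
    ∃ σ : Equiv.Perm ι, (∀ a, x * ε a * x⁻¹ = ε (a ∘ σ.symm)) ∧ (∀ j, j ≠ p → j ≠ q → σ j = j) := by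
  obtain ⟨σ, hσ⟩ := h.perm x (by
    intro a
    by_cases ha : a p = a q
    · exact ⟨a, by rw [h.XD x hx a ha, mul_inv_cancel_right]⟩
    · obtain ⟨d, hd, rfl⟩ := h.split a ha
      refine ⟨b + d, ?_⟩
      rw [h.add, h.add, ← hb]
      calc x * (ε (Pi.single p 1) * ε d) * x⁻¹ = x * ε (Pi.single p 1) * x⁻¹ * (x * ε d) * x⁻¹ := by group
        _ = x * ε (Pi.single p 1) * x⁻¹ * (ε d * x) * x⁻¹ := by rw [h.XD x hx d hd]
        _ = (x * ε (Pi.single p 1) * x⁻¹) * ε d := by group)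
  refine ⟨σ, hσ, fun j hp hq => ?_⟩
  have h1 := hσ (Pi.single j 1)
  rw [h.XD x hx _ (by rw [Pi.single_eq_of_ne hp.symm, Pi.single_eq_of_ne hq.symm]), mul_inv_cancel_right] at h1
  have h2 : (Pi.single j (1 : ZMod 2) : ι → ZMod 2) ∘ σ.symm = Pi.single (σ j) 1 := by
    funext k
    by_cases hk : k = σ j
    · subst hk
      simp
    · have : σ.symm k ≠ j := fun hc => hk (by rw [← hc, Equiv.apply_symm_apply])
      simp [Pi.single_eq_of_ne hk, Pi.single_eq_of_ne this]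
  rw [h2] at h1
  by_contra hc
  obtain ⟨m, hm1, hm2, -, -⟩ := exists_ne4 h.nine j (σ j) j j
  have h3 := h.eq_of h1 (m := m) (by rw [Pi.single_eq_of_ne hm1, Pi.single_eq_of_ne hm2])
  have h4 := congrFun h3 j
  rw [Pi.single_eq_same, Pi.single_eq_of_ne (fun e => hc e.symm)] at h4
  exact one_ne_zero h4

theorem nX_pq {σ : Equiv.Perm ι} (hσ : ∀ j, j ≠ p → j ≠ q → σ j = j) : σ p = p ∨ σ p = q := by
  by_contra hc
  push Not at hc
  have h1 := hσ (σ p) hc.1 hc.2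
  exact hc.1 (σ.injective h1)

/-- Lemma S for the line itself -/
theorem S0 {x : G} (hx : x ∈ X) {b : ι → ZMod 2} (hb : x * ε (Pi.single p 1) * x⁻¹ = ε b) {j : ι} (hp : j ≠ p)
    (hq : j ≠ q) {u : G} (hu : H p j u) : x * u * x⁻¹ * u ∈ h.W := by
  obtain ⟨σ, hσ, hF⟩ := h.nX hx hb
  have h1 := h.act x σ hσ p j u hu
  rw [hF j hp hq] at h1
  rcases h.nX_pq hF with h2 | h2
  · rw [h2] at h1
    obtain ⟨c, hc⟩ := h.idx hp.symm h1 hu
    rw [hc]
    exact h.ε_mem_W c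
  · rw [h2] at h1
    obtain ⟨e, he⟩ := h.exH p q h.pq
    obtain ⟨c, hc⟩ := h.k1 p q j h.pq hp.symm hq.symm e u _ he hu h1
    obtain ⟨m, hm1, hm2, hm3, -⟩ := exists_ne4 h.nine p q j j
    have he' := h.uU p q m hm1 hm2 e he
    have hu' := h.uU p j m hm1 hm3 u hu
    have hx' := h.uU q j m hm2 hm3 _ h1
    have e1 : x * u * x⁻¹ * u = e * ε c := by
      rw [← hc]
      calc x * u * x⁻¹ * u = u * (x * u * x⁻¹) := h.ab m _ hx' _ hu'
        _ = (e * e) * (u * (x * u * x⁻¹)) := by rw [h.sq m e he', one_mul]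
        _ = e * (e * u * (x * u * x⁻¹)) := by group
    rw [e1]
    exact mul_mem (h.H_mem_W he) (h.ε_mem_W c)

/-- `x u x⁻¹ ∈ U m` -/
theorem conj_mem_U {x : G} (hx : x ∈ X) {i j m : ι} (hp : m ≠ p) (hq : m ≠ q) (hi : m ≠ i) (hj : m ≠ j) {u : G}
    (hu : H i j u) : x * u * x⁻¹ ∈ U m := h.XU x hx m hp hq u (h.uU i j m hi hj u hu)

/-- **Lemma S** : the class of `y u y⁻¹` modulo `W` depends only on the line `y V y⁻¹` -/
theorem S {y y' : G} (hy : y ∈ X) (hy' : y' ∈ X) {d : ι → ZMod 2}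
    (he : y * ε (Pi.single p 1) * y⁻¹ = (y' * ε (Pi.single p 1) * y'⁻¹) * ε d) (hd : d p = d q) {j : ι} (hp : j ≠ p)
    (hq : j ≠ q) {u : G} (hu : H p j u) : y * u * y⁻¹ * (y' * u * y'⁻¹) ∈ h.W := by
  have hm : y'⁻¹ * y ∈ X := mul_mem (inv_mem hy') hy
  have h1 : (y'⁻¹ * y) * ε (Pi.single p 1) * (y'⁻¹ * y)⁻¹ = ε (Pi.single p 1 + d) := by
    rw [h.add]
    calc (y'⁻¹ * y) * ε (Pi.single p 1) * (y'⁻¹ * y)⁻¹ = y'⁻¹ * (y * ε (Pi.single p 1) * y⁻¹) * y' := by group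
      _ = ε (Pi.single p 1) * (y'⁻¹ * ε d) * y' := by rw [he]; group
      _ = ε (Pi.single p 1) * (ε d * y'⁻¹) * y' := by rw [h.XD _ (inv_mem hy') d hd]
      _ = ε (Pi.single p 1) * ε d := by group
  have h2 := h.W_conj hy' (h.S0 hm h1 hp hq hu)
  have e : y' * (y'⁻¹ * y * u * (y'⁻¹ * y)⁻¹ * u) * y'⁻¹ = y * u * y⁻¹ * (y' * u * y'⁻¹) := by group
  rw [e] at h2
  exact h2

/-! ### The centraliser of `W` -/

theorem cW0 {g e : G} (hg : ∀ a, g * ε a = ε a * g) (he : H p q e) (hge : g * e = e * g) :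
    ∃ η : ι → ZMod 2, ∀ j, j ≠ p → j ≠ q → ∀ u, H p j u → g * u * g⁻¹ = u * ε (Pi.single j (η j)) := by
  obtain ⟨η, hη⟩ := h.eta g hg
  obtain ⟨m, hm1, hm2, -, -⟩ := exists_ne4 h.nine p q q q
  have h1 := hη p q h.pq e he
  rw [hge, mul_inv_cancel_right] at h1
  have h2 := h.ker_of (mul_eq_left.1 h1.symm) (m := m) (by
    rw [Pi.add_apply, Pi.single_eq_of_ne hm1, Pi.single_eq_of_ne hm2, add_zero])
  have h3 : η p = 0 := by
    have := congrFun h2 p
    rwa [Pi.add_apply, Pi.single_eq_same, Pi.single_eq_of_ne h.pq, add_zero, Pi.zero_apply] at this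
  refine ⟨η, fun j hp hq u hu => ?_⟩
  have h4 := hη p j hp.symm u hu
  rwa [h3, Pi.single_zero, zero_add] at h4

/-- an element of the centraliser of `V` and `e' = x z_p x⁻¹` centralises `x V x⁻¹` -/
theorem conj_cV {g x : G} (hx : x ∈ X) (hg : ∀ a, g * ε a = ε a * g)
    (hge : g * (x * ε (Pi.single p 1) * x⁻¹) = (x * ε (Pi.single p 1) * x⁻¹) * g) :
    ∀ a, (x⁻¹ * g * x) * ε a = ε a * (x⁻¹ * g * x) := by
  have hg0 : x⁻¹ * g * x ∈ X := mul_mem (mul_mem (inv_mem hx) (h.cX g hg)) hx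
  intro a
  by_cases ha : a p = a q
  · exact h.XD _ hg0 a ha
  · obtain ⟨d, hd, rfl⟩ := h.split a ha
    have h1 : (x⁻¹ * g * x) * ε (Pi.single p 1) = ε (Pi.single p 1) * (x⁻¹ * g * x) := by
      calc (x⁻¹ * g * x) * ε (Pi.single p 1) = x⁻¹ * (g * (x * ε (Pi.single p 1) * x⁻¹)) * x := by group
        _ = x⁻¹ * ((x * ε (Pi.single p 1) * x⁻¹) * g) * x := by rw [hge]
        _ = ε (Pi.single p 1) * (x⁻¹ * g * x) := by group
    calc (x⁻¹ * g * x) * ε (Pi.single p 1 + d) = ((x⁻¹ * g * x) * ε (Pi.single p 1)) * ε d := by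
          rw [h.add]; group
      _ = ε (Pi.single p 1) * ((x⁻¹ * g * x) * ε d) := by rw [h1]; group
      _ = ε (Pi.single p 1) * (ε d * (x⁻¹ * g * x)) := by rw [h.XD _ hg0 d hd]
      _ = ε (Pi.single p 1 + d) * (x⁻¹ * g * x) := by rw [h.add]; group

/-- `x⁻¹ z_p x` is heavy outside `V` -/
theorem H_inv {x : G} (hx : x ∈ X) (hH : H p q (x * ε (Pi.single p 1) * x⁻¹)) :
    H p q (x⁻¹ * ε (Pi.single p 1) * x) := by
  have h1 := h.lin x⁻¹ (inv_mem hx)
  rw [inv_inv] at h1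
  refine h1.resolve_left ?_
  rintro ⟨b, hb⟩
  have hz : ε (Pi.single p 1) = x * ε b * x⁻¹ := by rw [← hb]; group
  by_cases hbb : b p = b q
  · rw [h.XD x hx b hbb, mul_inv_cancel_right] at hz
    have h2 : x * ε (Pi.single p 1) * x⁻¹ = ε b := by
      rw [hz, h.XD x hx b hbb, mul_inv_cancel_right]
    exact h.nV p q _ hH b h2
  · obtain ⟨d, hd, rfl⟩ := h.split b hbb
    have h2 : x * ε (Pi.single p 1 + d) * x⁻¹ = (x * ε (Pi.single p 1) * x⁻¹) * ε d := by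
      rw [h.add]
      calc x * (ε (Pi.single p 1) * ε d) * x⁻¹ = x * ε (Pi.single p 1) * x⁻¹ * (x * ε d) * x⁻¹ := by group
        _ = x * ε (Pi.single p 1) * x⁻¹ * (ε d * x) * x⁻¹ := by rw [h.XD x hx d hd]
        _ = (x * ε (Pi.single p 1) * x⁻¹) * ε d := by group
    rw [h2] at hz
    refine h.nV p q _ hH (Pi.single p 1 + d) ?_
    have h3 : (x * ε (Pi.single p 1) * x⁻¹ * ε d) * ε d = ε (Pi.single p 1) * ε d := by rw [← hz]
    rw [mul_assoc, h.sqε, mul_one, ← h.add] at h3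
    exact h3

theorem cW {g x : G} (hx : x ∈ X) (hH : H p q (x * ε (Pi.single p 1) * x⁻¹)) (hg : ∀ a, g * ε a = ε a * g)
    (hge : g * (x * ε (Pi.single p 1) * x⁻¹) = (x * ε (Pi.single p 1) * x⁻¹) * g) :
    ∃ η : ι → ZMod 2, ∀ j, j ≠ p → j ≠ q → ∀ u, H p j u →
      g * (x * u * x⁻¹) * g⁻¹ = (x * u * x⁻¹) * ε (Pi.single j (η j)) := by
  have hg0 := h.conj_cV hx hg hge
  have he0 : (x⁻¹ * g * x) * (x⁻¹ * ε (Pi.single p 1) * x) = (x⁻¹ * ε (Pi.single p 1) * x) * (x⁻¹ * g * x) := by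
    calc (x⁻¹ * g * x) * (x⁻¹ * ε (Pi.single p 1) * x) = x⁻¹ * (g * ε (Pi.single p 1)) * x := by group
      _ = x⁻¹ * (ε (Pi.single p 1) * g) * x := by rw [hg]
      _ = (x⁻¹ * ε (Pi.single p 1) * x) * (x⁻¹ * g * x) := by group
  obtain ⟨η, hη⟩ := h.cW0 hg0 (h.H_inv hx hH) he0
  refine ⟨η, fun j hp hq u hu => ?_⟩
  have h1 := hη j hp hq u hu
  have h2 : x * ε (Pi.single j (η j)) = ε (Pi.single j (η j)) * x :=
    h.XD x hx _ (by rw [Pi.single_eq_of_ne hp.symm, Pi.single_eq_of_ne hq.symm])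
  calc g * (x * u * x⁻¹) * g⁻¹ = x * ((x⁻¹ * g * x) * u * (x⁻¹ * g * x)⁻¹) * x⁻¹ := by group
    _ = x * (u * ε (Pi.single j (η j))) * x⁻¹ := by rw [h1]
    _ = x * u * x⁻¹ * (x * ε (Pi.single j (η j))) * x⁻¹ := by group
    _ = x * u * x⁻¹ * (ε (Pi.single j (η j)) * x) * x⁻¹ := by rw [h2]
    _ = (x * u * x⁻¹) * ε (Pi.single j (η j)) := by group

/-- elements which centralise `V` and `e'` centralise `W` -/
theorem cent_W {g e : G} (hg : ∀ a, g * ε a = ε a * g) (he : H p q e) (hge : g * e = e * g) {w : G}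
    (hw : w ∈ h.W) : g * w = w * g := by
  rcases hw with ⟨a, rfl⟩ | ⟨u, a, hu, rfl⟩
  · exact hg a
  · obtain ⟨c, hc⟩ := h.idx h.pq hu he
    obtain ⟨m, hm1, hm2, -, -⟩ := exists_ne4 h.nine p q q q
    have e1 : u = ε c * e := by
      rw [← hc, mul_assoc, h.sq m e (h.uU p q m hm1 hm2 e he), mul_one]
    have e2 : g * u = u * g := by
      rw [e1, ← mul_assoc, hg, mul_assoc, hge, mul_assoc]
    rw [← mul_assoc, e2, mul_assoc, hg, mul_assoc]

/-- the classes `u' u W` do not depend on the letter -/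
def HP (x : G) : Prop := ∀ j k, j ≠ p → j ≠ q → k ≠ p → k ≠ q → ∀ u v, H p j u → H p k v →
  (x * u * x⁻¹ * u) * (x * v * x⁻¹ * v) ∈ h.W

/-- `C_G(W)` centralises `u' u` -/
theorem centA {g x : G} (hx : x ∈ X) (hH : H p q (x * ε (Pi.single p 1) * x⁻¹)) (hP : h.HP x)
    (hg : ∀ a, g * ε a = ε a * g)
    (hge : g * (x * ε (Pi.single p 1) * x⁻¹) = (x * ε (Pi.single p 1) * x⁻¹) * g) {j : ι} (hp : j ≠ p) (hq : j ≠ q)
    {u : G} (hu : H p j u) : g * (x * u * x⁻¹ * u) = (x * u * x⁻¹ * u) * g := by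
  obtain ⟨k, hk1, hk2, hk3, -⟩ := exists_ne4 h.nine p q j j
  obtain ⟨m, hm1, hm2, hm3, hm4⟩ := exists_ne4 h.nine p q j k
  obtain ⟨v, hv⟩ := h.exH p k hk1.symm
  obtain ⟨η, hη⟩ := h.cW0 hg hH hge
  obtain ⟨η', hη'⟩ := h.cW hx hH hg hge
  have hu' := h.uU p j m hm1 hm3 u hu
  have hv' := h.uU p k m hm1 hm4 v hv
  have key : ∀ l, l ≠ p → l ≠ q → ∀ w, H p l w → w ∈ U m →
      g * (x * w * x⁻¹ * w) * g⁻¹ = (x * w * x⁻¹ * w) * ε (Pi.single l (η' l + η l)) := by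
    intro l hlp hlq w hw hwU
    calc g * (x * w * x⁻¹ * w) * g⁻¹ = (g * (x * w * x⁻¹) * g⁻¹) * (g * w * g⁻¹) := by group
      _ = ((x * w * x⁻¹) * ε (Pi.single l (η' l))) * (w * ε (Pi.single l (η l))) := by
          rw [hη l hlp hlq w hw, hη' l hlp hlq w hw]
      _ = (x * w * x⁻¹) * (ε (Pi.single l (η' l)) * w) * ε (Pi.single l (η l)) := by group
      _ = (x * w * x⁻¹) * (w * ε (Pi.single l (η' l))) * ε (Pi.single l (η l)) := by
          rw [h.ab m _ (h.εU _ m) _ hwU]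
      _ = (x * w * x⁻¹ * w) * (ε (Pi.single l (η' l)) * ε (Pi.single l (η l))) := by group
      _ = (x * w * x⁻¹ * w) * ε (Pi.single l (η' l + η l)) := by rw [← h.add, ← Pi.single_add]
  have ka := key j hp hq u hu hu'
  have kb := key k hk1 hk2 v hv hv'
  have hb : x * v * x⁻¹ * v ∈ U m := mul_mem (h.XU x hx m hm1 hm2 v hv') hv'
  have h1 := h.cent_W hg hH hge (hP j k hp hq hk1 hk2 u v hu hv)
  have h2 : g * ((x * u * x⁻¹ * u) * (x * v * x⁻¹ * v)) * g⁻¹ = (x * u * x⁻¹ * u) * (x * v * x⁻¹ * v) := by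
    rw [h1, mul_inv_cancel_right]
  have h3 : g * ((x * u * x⁻¹ * u) * (x * v * x⁻¹ * v)) * g⁻¹ = ((x * u * x⁻¹ * u) * (x * v * x⁻¹ * v)) *
      ε (Pi.single j (η' j + η j) + Pi.single k (η' k + η k)) := by
    calc g * ((x * u * x⁻¹ * u) * (x * v * x⁻¹ * v)) * g⁻¹
        = (g * (x * u * x⁻¹ * u) * g⁻¹) * (g * (x * v * x⁻¹ * v) * g⁻¹) := by group
      _ = ((x * u * x⁻¹ * u) * ε (Pi.single j (η' j + η j))) *
          ((x * v * x⁻¹ * v) * ε (Pi.single k (η' k + η k))) := by rw [ka, kb]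
      _ = (x * u * x⁻¹ * u) * (ε (Pi.single j (η' j + η j)) * (x * v * x⁻¹ * v)) *
          ε (Pi.single k (η' k + η k)) := by group
      _ = (x * u * x⁻¹ * u) * ((x * v * x⁻¹ * v) * ε (Pi.single j (η' j + η j))) *
          ε (Pi.single k (η' k + η k)) := by rw [h.ab m _ (h.εU _ m) _ hb]
      _ = ((x * u * x⁻¹ * u) * (x * v * x⁻¹ * v)) *
          (ε (Pi.single j (η' j + η j)) * ε (Pi.single k (η' k + η k))) := by group
      _ = _ := by rw [← h.add]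
  rw [h2] at h3
  have h4 := h.ker_of (mul_eq_left.1 h3.symm) (m := p) (by
    rw [Pi.add_apply, Pi.single_eq_of_ne hp.symm, Pi.single_eq_of_ne hk1.symm, add_zero])
  have h5 : η' j + η j = 0 := by
    have := congrFun h4 j
    rwa [Pi.add_apply, Pi.single_eq_same, Pi.single_eq_of_ne hk3.symm, add_zero, Pi.zero_apply] at this
  rw [h5, Pi.single_zero, h.zero, mul_one] at ka
  exact mul_inv_eq_iff_eq_mul.1 ka

theorem single_comp (σ : Equiv.Perm ι) (j : ι) :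
    (Pi.single j (1 : ZMod 2) : ι → ZMod 2) ∘ σ.symm = Pi.single (σ j) 1 := by
  funext k
  by_cases hk : k = σ j
  · subst hk
    simp
  · have : σ.symm k ≠ j := fun hc => hk (by rw [← hc, Equiv.apply_symm_apply])
    simp [Pi.single_eq_of_ne hk, Pi.single_eq_of_ne this]

theorem rD : (Pi.single p 1 + Pi.single q 1 : ι → ZMod 2) p = (Pi.single p 1 + Pi.single q 1 : ι → ZMod 2) q := by
  rw [Pi.add_apply, Pi.add_apply, Pi.single_eq_same, Pi.single_eq_same, Pi.single_eq_of_ne h.pq,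
    Pi.single_eq_of_ne h.pq.symm, add_zero, zero_add]

theorem sq_H {i j : ι} {u : G} (hu : H i j u) : u * u = 1 := by
  obtain ⟨m, hm1, hm2, -, -⟩ := exists_ne4 h.nine i j j j
  exact h.sq m u (h.uU i j m hm1 hm2 u hu)

/-- an element of `C(V)` which moves `e'` by `z_p z_q` moves `u'` by an element of `V` -/
theorem nsw {k x : G} (hx : x ∈ X) (hH : H p q (x * ε (Pi.single p 1) * x⁻¹)) (hk : ∀ a, k * ε a = ε a * k)
    (hke : k * (x * ε (Pi.single p 1) * x⁻¹) * k⁻¹ =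
      (x * ε (Pi.single p 1) * x⁻¹) * ε (Pi.single p 1 + Pi.single q 1))
    {j : ι} (hp : j ≠ p) (hq : j ≠ q) {u : G} (hu : H p j u) :
    ∃ d, k * (x * u * x⁻¹) * k⁻¹ = (x * u * x⁻¹) * ε d := by
  have hX0 : x⁻¹ * k * x ∈ X := mul_mem (mul_mem (inv_mem hx) (h.cX k hk)) hx
  have h1 : (x⁻¹ * k * x) * ε (Pi.single p 1) * (x⁻¹ * k * x)⁻¹ = ε (Pi.single q 1) := by
    calc (x⁻¹ * k * x) * ε (Pi.single p 1) * (x⁻¹ * k * x)⁻¹
        = x⁻¹ * (k * (x * ε (Pi.single p 1) * x⁻¹) * k⁻¹) * x := by group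
      _ = ε (Pi.single p 1) * (x⁻¹ * ε (Pi.single p 1 + Pi.single q 1)) * x := by rw [hke]; group
      _ = ε (Pi.single p 1) * (ε (Pi.single p 1 + Pi.single q 1) * x⁻¹) * x := by
          rw [h.XD _ (inv_mem hx) _ h.rD]
      _ = ε (Pi.single p 1) * ε (Pi.single p 1 + Pi.single q 1) := by group
      _ = ε (Pi.single q 1) := by rw [← h.add, ← add_assoc, fadd, zero_add]
  obtain ⟨σ, hσ, hF⟩ := h.nX hX0 h1
  have h2 := h.act _ σ hσ p j u hu
  rw [hF j hp hq] at h2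
  obtain ⟨m, hm1, hm2, hm3, -⟩ := exists_ne4 h.nine p q j j
  have h3 : σ p = q := by
    rcases h.nX_pq hF with h4 | h4
    · exfalso
      have h5 := hσ (Pi.single p 1)
      rw [h1, h.single_comp, h4] at h5
      have h6 := h.eq_of h5 (m := m) (by rw [Pi.single_eq_of_ne hm1, Pi.single_eq_of_ne hm2])
      have h7 := congrFun h6 p
      rw [Pi.single_eq_same, Pi.single_eq_of_ne h.pq] at h7
      exact zero_ne_one h7
    · exact h4
  rw [h3] at h2
  obtain ⟨b, hb⟩ := h.k1 p q j h.pq hp.symm hq.symm _ u _ (h.H_inv hx hH) hu h2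
  have hsq' : (x * u * x⁻¹) * (x * u * x⁻¹) = 1 := by
    calc (x * u * x⁻¹) * (x * u * x⁻¹) = x * (u * u) * x⁻¹ := by group
      _ = 1 := by rw [h.sq_H hu]; group
  have h4 : ε (Pi.single p 1) * (x * u * x⁻¹) * (k * (x * u * x⁻¹) * k⁻¹) = x * ε b * x⁻¹ := by
    rw [← hb]
    group
  have h5 : k * (x * u * x⁻¹) * k⁻¹ = (x * u * x⁻¹) * (ε (Pi.single p 1) * (x * ε b * x⁻¹)) := by
    rw [← h4]
    calc k * (x * u * x⁻¹) * k⁻¹ = ((x * u * x⁻¹) * (x * u * x⁻¹)) * (k * (x * u * x⁻¹) * k⁻¹) := by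
          rw [hsq', one_mul]
      _ = (x * u * x⁻¹) * ((ε (Pi.single p 1) * ε (Pi.single p 1)) * (x * u * x⁻¹)) *
          (k * (x * u * x⁻¹) * k⁻¹) := by rw [h.sqε, one_mul]
      _ = _ := by group
  by_cases hbb : b p = b q
  · refine ⟨Pi.single p 1 + b, ?_⟩
    rw [h5, h.XD x hx b hbb, mul_inv_cancel_right, h.add]
  · exfalso
    obtain ⟨d, hd, rfl⟩ := h.split b hbb
    have h6 : x * ε (Pi.single p 1 + d) * x⁻¹ = (x * ε (Pi.single p 1) * x⁻¹) * ε d := by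
      rw [h.add]
      calc x * (ε (Pi.single p 1) * ε d) * x⁻¹ = x * ε (Pi.single p 1) * x⁻¹ * (x * ε d) * x⁻¹ := by group
        _ = x * ε (Pi.single p 1) * x⁻¹ * (ε d * x) * x⁻¹ := by rw [h.XD x hx d hd]
        _ = (x * ε (Pi.single p 1) * x⁻¹) * ε d := by group
    rw [h6] at h5
    generalize he : x * ε (Pi.single p 1) * x⁻¹ = e at *
    generalize hu' : x * u * x⁻¹ = u' at *
    have hwU : ε (Pi.single p 1) * (e * ε d) ∈ U m :=
      mul_mem (h.εU _ m) (mul_mem (h.uU p q m hm1 hm2 e hH) (h.εU _ m))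
    have hwsq := h.sq m _ hwU
    have hkw : k * (ε (Pi.single p 1) * (e * ε d)) * k⁻¹ =
        (ε (Pi.single p 1) * (e * ε d)) * ε (Pi.single p 1 + Pi.single q 1) := by
      calc k * (ε (Pi.single p 1) * (e * ε d)) * k⁻¹
          = (k * ε (Pi.single p 1)) * k⁻¹ * (k * e * k⁻¹) * (k * ε d) * k⁻¹ := by group
        _ = (ε (Pi.single p 1) * k) * k⁻¹ * (e * ε (Pi.single p 1 + Pi.single q 1)) * (ε d * k) * k⁻¹ := by
            rw [hk, hke, hk]
        _ = ε (Pi.single p 1) * e * (ε (Pi.single p 1 + Pi.single q 1) * ε d) := by group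
        _ = ε (Pi.single p 1) * e * (ε d * ε (Pi.single p 1 + Pi.single q 1)) := by rw [h.cε _ d]
        _ = (ε (Pi.single p 1) * (e * ε d)) * ε (Pi.single p 1 + Pi.single q 1) := by group
    have h7 : (k * k) * u' * (k * k)⁻¹ = u' * ε (Pi.single p 1 + Pi.single q 1) := by
      calc (k * k) * u' * (k * k)⁻¹ = k * (k * u' * k⁻¹) * k⁻¹ := by group
        _ = k * (u' * (ε (Pi.single p 1) * (e * ε d))) * k⁻¹ := by rw [h5]
        _ = (k * u' * k⁻¹) * (k * (ε (Pi.single p 1) * (e * ε d)) * k⁻¹) := by group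
        _ = (u' * (ε (Pi.single p 1) * (e * ε d))) * ((ε (Pi.single p 1) * (e * ε d)) *
            ε (Pi.single p 1 + Pi.single q 1)) := by rw [h5, hkw]
        _ = u' * ((ε (Pi.single p 1) * (e * ε d)) * (ε (Pi.single p 1) * (e * ε d))) *
            ε (Pi.single p 1 + Pi.single q 1) := by group
        _ = u' * ε (Pi.single p 1 + Pi.single q 1) := by rw [hwsq, mul_one]
    have hkk : ∀ a, (k * k) * ε a = ε a * (k * k) := fun a => by
      rw [mul_assoc, hk, ← mul_assoc, hk, mul_assoc]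
    have hkke : (k * k) * e = e * (k * k) := by
      have h8 : (k * k) * e * (k * k)⁻¹ = e := by
        calc (k * k) * e * (k * k)⁻¹ = k * (k * e * k⁻¹) * k⁻¹ := by group
          _ = k * (e * ε (Pi.single p 1 + Pi.single q 1)) * k⁻¹ := by rw [hke]
          _ = (k * e * k⁻¹) * (k * ε (Pi.single p 1 + Pi.single q 1)) * k⁻¹ := by group
          _ = (e * ε (Pi.single p 1 + Pi.single q 1)) * (ε (Pi.single p 1 + Pi.single q 1) * k) * k⁻¹ := by
              rw [hke, hk]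
          _ = e * (ε (Pi.single p 1 + Pi.single q 1) * ε (Pi.single p 1 + Pi.single q 1)) := by group
          _ = e := by rw [h.sqε, mul_one]
      exact mul_inv_eq_iff_eq_mul.1 h8
    subst he
    obtain ⟨η, hη⟩ := h.cW hx hH hkk hkke
    have h9 := hη j hp hq u hu
    rw [hu', h7] at h9
    have h10 := h.eq_of (mul_left_cancel h9) (m := m) (by
      rw [Pi.add_apply, Pi.single_eq_of_ne hm1, Pi.single_eq_of_ne hm2, Pi.single_eq_of_ne hm3, add_zero])
    have h11 := congrFun h10 p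
    rw [Pi.add_apply, Pi.single_eq_same, Pi.single_eq_of_ne h.pq, Pi.single_eq_of_ne hp.symm, add_zero] at h11
    exact one_ne_zero h11

/-! ### TYPE II -/

/-- the swappers of the two other lines of `W` -/
def Sw (ε : (ι → ZMod 2) → G) (p q : ι) (e c : G) : Prop :=
  ∃ s s' : ZMod 2, s + s' = 1 ∧ c * e * c⁻¹ = e * ε (Pi.single p s + Pi.single q s')

theorem mem_C {c : G} : c ∈ centralizer (Set.range ε) ↔ ∀ a, c * ε a = ε a * c := by
  rw [mem_centralizer_iff]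
  constructor
  · intro h1 a
    exact (h1 _ ⟨a, rfl⟩).symm
  · rintro h1 _ ⟨a, rfl⟩
    exact (h1 a).symm

theorem comp_act {c c' e : G} {a b : ι → ZMod 2} (hc : ∀ a, c * ε a = ε a * c) (h1 : c * e * c⁻¹ = e * ε a)
    (h2 : c' * e * c'⁻¹ = e * ε b) : (c * c') * e * (c * c')⁻¹ = e * ε (a + b) := by
  calc (c * c') * e * (c * c')⁻¹ = c * (c' * e * c'⁻¹) * c⁻¹ := by group
    _ = (c * e * c⁻¹) * (c * ε b) * c⁻¹ := by rw [h2]; group
    _ = (e * ε a) * (ε b * c) * c⁻¹ := by rw [h1, hc]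
    _ = e * (ε a * ε b) := by group
    _ = e * ε (a + b) := by rw [h.add]

theorem inv_act {c e : G} {a : ι → ZMod 2} (hc : ∀ a, c * ε a = ε a * c) (h1 : c * e * c⁻¹ = e * ε a) :
    c⁻¹ * e * c⁻¹⁻¹ = e * ε a := by
  have h2 : c⁻¹ * ε a = ε a * c⁻¹ := by
    calc c⁻¹ * ε a = c⁻¹ * (ε a * c) * c⁻¹ := by group
      _ = c⁻¹ * (c * ε a) * c⁻¹ := by rw [hc]
      _ = ε a * c⁻¹ := by group
  calc c⁻¹ * e * c⁻¹⁻¹ = c⁻¹ * (e * (ε a * ε a)) * c := by rw [h.sqε]; group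
    _ = c⁻¹ * (e * ε a) * (ε a * c) := by group
    _ = c⁻¹ * (c * e * c⁻¹) * (c * ε a) := by rw [h1, hc]
    _ = e * ε a := by group

/-- how an element of `C(V)` acts on `e'` -/
theorem act_e {c e : G} (he : H p q e) (hc : ∀ a, c * ε a = ε a * c) :
    ∃ s s' : ZMod 2, c * e * c⁻¹ = e * ε (Pi.single p s + Pi.single q s') := by
  obtain ⟨η, hη⟩ := h.eta c hc
  exact ⟨η p, η q, hη p q h.pq e he⟩

theorem uniq_e {e : G} {s s' t t' : ZMod 2}
    (h1 : e * ε (Pi.single p s + Pi.single q s') = e * ε (Pi.single p t + Pi.single q t')) : s = t ∧ s' = t' := by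
  obtain ⟨m, hm1, hm2, -, -⟩ := exists_ne4 h.nine p q p p
  have h2 := h.eq_of (mul_left_cancel h1) (m := m) (by
    rw [Pi.add_apply, Pi.add_apply, Pi.single_eq_of_ne hm1, Pi.single_eq_of_ne hm2, Pi.single_eq_of_ne hm1,
      Pi.single_eq_of_ne hm2])
  constructor
  · have := congrFun h2 p
    rwa [Pi.add_apply, Pi.add_apply, Pi.single_eq_same, Pi.single_eq_same, Pi.single_eq_of_ne h.pq,
      Pi.single_eq_of_ne h.pq, add_zero, add_zero] at this
  · have := congrFun h2 q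
    rwa [Pi.add_apply, Pi.add_apply, Pi.single_eq_same, Pi.single_eq_same, Pi.single_eq_of_ne h.pq.symm,
      Pi.single_eq_of_ne h.pq.symm, zero_add, zero_add] at this

/-- **the product `a · tat⁻¹` is in `V`** (`a = u'u`) -/
theorem prodV {x : G} (hx : x ∈ X) (hH : H p q (x * ε (Pi.single p 1) * x⁻¹)) (hP : h.HP x) {t : G}
    (ht : ∀ a, t * ε a = ε a * t) (hs : Sw ε p q (x * ε (Pi.single p 1) * x⁻¹) t) {j : ι} (hp : j ≠ p) (hq : j ≠ q)
    {u : G} (hu : H p j u) : ∃ b, (x * u * x⁻¹ * u) * (t * (x * u * x⁻¹ * u) * t⁻¹) = ε b := by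
  obtain ⟨m, hm1, hm2, hm3, -⟩ := exists_ne4 h.nine p q j j
  have hu' := h.uU p j m hm1 hm3 u hu
  have hux : x * u * x⁻¹ ∈ U m := h.XU x hx m hm1 hm2 u hu'
  have hcU : ∀ c, (∀ a, c * ε a = ε a * c) → c * (x * u * x⁻¹ * u) * c⁻¹ ∈ U m := by
    intro c hc
    exact h.XU c (h.cX c hc) m hm1 hm2 _ (mul_mem hux hu')
  have h1 := core (centralizer (Set.range ε)) (Set.range ε) (Sw ε p q (x * ε (Pi.single p 1) * x⁻¹))
    (x * u * x⁻¹ * u) ?_ ?_ ?_ ?_ ?_ ?_ (h.mem_C.2 ht) hs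
  · refine h.CV m _ (mul_mem (mul_mem hux hu') (hcU t ht)) ?_
    intro c hc
    exact h1 c (h.mem_C.2 hc)
  · rintro c hc _ ⟨a, rfl⟩
    exact h.mem_C.1 hc a
  · rintro c hc ⟨s, s', -, h2⟩
    rw [h.mem_C] at hc
    have h3 := h.comp_act hc h2 h2
    rw [fadd, h.zero, mul_one] at h3
    refine h.centA hx hH hP ?_ (mul_inv_eq_iff_eq_mul.1 h3) hp hq hu
    intro a
    rw [mul_assoc, hc, ← mul_assoc, hc, mul_assoc]
  · intro k hk hns
    rw [h.mem_C] at hk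
    obtain ⟨s, s', h2⟩ := h.act_e hH hk
    by_cases hss : s = s'
    · subst hss
      by_cases hs0 : s = 0
      · subst hs0
        rw [Pi.single_zero, Pi.single_zero, add_zero, h.zero, mul_one] at h2
        have h3 := h.centA hx hH hP hk (mul_inv_eq_iff_eq_mul.1 h2) hp hq hu
        refine ⟨1, ⟨0, h.zero⟩, ?_⟩
        rw [h3, mul_inv_cancel_right, mul_one]
      · have hs1 : s = 1 := z2a s hs0
        subst hs1
        obtain ⟨d, hd⟩ := h.nsw hx hH hk h2 hp hq hu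
        obtain ⟨η, hη⟩ := h.eta k hk
        have h4 := hη p j hp.symm u hu
        refine ⟨ε (d + (Pi.single p (η p) + Pi.single j (η j))), ⟨_, rfl⟩, ?_⟩
        calc k * (x * u * x⁻¹ * u) * k⁻¹ = (k * (x * u * x⁻¹) * k⁻¹) * (k * u * k⁻¹) := by group
          _ = ((x * u * x⁻¹) * ε d) * (u * ε (Pi.single p (η p) + Pi.single j (η j))) := by rw [hd, h4]
          _ = (x * u * x⁻¹) * (ε d * u) * ε (Pi.single p (η p) + Pi.single j (η j)) := by group
          _ = (x * u * x⁻¹) * (u * ε d) * ε (Pi.single p (η p) + Pi.single j (η j)) := by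
              rw [h.ab m _ (h.εU _ m) _ hu']
          _ = (x * u * x⁻¹ * u) * (ε d * ε (Pi.single p (η p) + Pi.single j (η j))) := by group
          _ = _ := by rw [← h.add]
    · exact absurd ⟨s, s', z2b s s' hss, h2⟩ hns
  · rintro c hc c' hc' ⟨s, s', h2, h3⟩ ⟨t1, t1', h4, h5⟩ ⟨r, r', h6, h7⟩
    rw [h.mem_C] at hc hc'
    have hci : ∀ a, c⁻¹ * ε a = ε a * c⁻¹ := by
      intro a
      calc c⁻¹ * ε a = c⁻¹ * (ε a * c) * c⁻¹ := by group
        _ = c⁻¹ * (c * ε a) * c⁻¹ := by rw [hc]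
        _ = ε a * c⁻¹ := by group
    have h8 := h.comp_act hci (h.inv_act hc h3) h5
    rw [h7] at h8
    have h9 : (Pi.single p s + Pi.single q s' + (Pi.single p t1 + Pi.single q t1') : ι → ZMod 2) =
        Pi.single p (s + t1) + Pi.single q (s' + t1') := by
      rw [Pi.single_add, Pi.single_add]
      abel
    rw [h9] at h8
    obtain ⟨h10, h11⟩ := h.uniq_e h8
    subst h10 h11
    clear h3 h5 h7 h8 h9
    revert h2 h4 h6
    revert s s' t1 t1'
    decide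
  · rintro c hc k hk ⟨s, s', h2, h3⟩ hns
    rw [h.mem_C] at hc hk
    obtain ⟨r, r', h4⟩ := h.act_e hH hk
    have h5 : r + r' ≠ 1 := fun h5 => hns ⟨r, r', h5, h4⟩
    have h8 := h.comp_act hc h3 h4
    have h9 : (Pi.single p s + Pi.single q s' + (Pi.single p r + Pi.single q r') : ι → ZMod 2) =
        Pi.single p (s + r) + Pi.single q (s' + r') := by
      rw [Pi.single_add, Pi.single_add]
      abel
    rw [h9] at h8
    refine ⟨s + r, s' + r', ?_, h8⟩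
    clear h3 h4 h8 h9 hns
    revert h2 h5
    revert s s' r r'
    decide
  · intro c hc
    rw [h.mem_C] at hc
    exact h.ab m _ (mul_mem hux hu') _ (hcU c hc)

/-- the elements of `X` which act trivially on the classes modulo `W` -/
def Good (y : G) : Prop := ∀ j, j ≠ p → j ≠ q → ∀ u, H p j u → y * u * y⁻¹ * u ∈ h.W

theorem good_mul {y y' : G} (hy : y ∈ X) (h1 : h.Good y) (h2 : h.Good y') : h.Good (y * y') := by
  intro j hp hq u hu
  have h3 := h.W_conj hy (h2 j hp hq u hu)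
  have h4 := h1 j hp hq u hu
  have h5 := mul_mem h3 h4
  have e : y * (y' * u * y'⁻¹ * u) * y⁻¹ * (y * u * y⁻¹ * u) = (y * y') * u * (y * y')⁻¹ * u := by
    calc y * (y' * u * y'⁻¹ * u) * y⁻¹ * (y * u * y⁻¹ * u) = y * (y' * u * y'⁻¹) * (u * u) * y⁻¹ * u := by group
      _ = (y * y') * u * (y * y')⁻¹ * u := by rw [h.sq_H hu]; group
  rwa [e] at h5

theorem good_of_line {y : G} (hy : y ∈ X) {b : ι → ZMod 2} (hb : y * ε (Pi.single p 1) * y⁻¹ = ε b) : h.Good y :=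
  fun _ hp hq _ hu => h.S0 hy hb hp hq hu

/-- `y ∈ X` acts as `y' ∈ X` on the classes if `y z_p y⁻¹ ∈ (y' z_p y'⁻¹) V` -/
theorem good_of {y y' : G} (hy : y ∈ X) (hy' : y' ∈ X) {d : ι → ZMod 2}
    (he : y * ε (Pi.single p 1) * y⁻¹ = (y' * ε (Pi.single p 1) * y'⁻¹) * ε d) (hd : d p = d q)
    (h1 : h.Good y') : h.Good y := by
  have hm : y'⁻¹ * y ∈ X := mul_mem (inv_mem hy') hy
  have h2 : (y'⁻¹ * y) * ε (Pi.single p 1) * (y'⁻¹ * y)⁻¹ = ε (Pi.single p 1 + d) := by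
    rw [h.add]
    calc (y'⁻¹ * y) * ε (Pi.single p 1) * (y'⁻¹ * y)⁻¹ = y'⁻¹ * (y * ε (Pi.single p 1) * y⁻¹) * y' := by group
      _ = ε (Pi.single p 1) * (y'⁻¹ * ε d) * y' := by rw [he]; group
      _ = ε (Pi.single p 1) * (ε d * y'⁻¹) * y' := by rw [h.XD _ (inv_mem hy') d hd]
      _ = ε (Pi.single p 1) * ε d := by group
  have h3 := h.good_mul hy' h1 (h.good_of_line hm h2)
  rwa [mul_inv_cancel_left] at h3

/-- **TYPE II** -/
theorem typeTwo {x : G} (hx : x ∈ X) (hH : H p q (x * ε (Pi.single p 1) * x⁻¹)) (hP : h.HP x) {t : G}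
    (ht : ∀ a, t * ε a = ε a * t) (hs : Sw ε p q (x * ε (Pi.single p 1) * x⁻¹) t) :
    ∀ y ∈ X, h.Good y := by
  have htX : t ∈ X := h.cX t ht
  have hxi : x⁻¹ ∈ X := inv_mem hx
  obtain ⟨s, s', hss, hte⟩ := hs
  -- `g = x⁻¹ t x` is good
  have hgX : x⁻¹ * t * x ∈ X := mul_mem (mul_mem hxi htX) hx
  have hg : h.Good (x⁻¹ * t * x) := by
    intro j hp hq u hu
    obtain ⟨b, hb⟩ := h.prodV hx hH hP ht ⟨s, s', hss, hte⟩ hp hq hu
    obtain ⟨η, hη⟩ := h.eta t ht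
    have h1 := hη p j hp.symm u hu
    obtain ⟨m, hm1, hm2, hm3, -⟩ := exists_ne4 h.nine p q j j
    have hu' := h.uU p j m hm1 hm3 u hu
    have hux : x * u * x⁻¹ ∈ U m := h.XU x hx m hm1 hm2 u hu'
    have htux : t * (x * u * x⁻¹) * t⁻¹ ∈ U m := h.XU t htX m hm1 hm2 _ hux
    have h2 : (x * u * x⁻¹ * u) * (t * (x * u * x⁻¹ * u) * t⁻¹) =
        (t * (x * u * x⁻¹) * t⁻¹) * (x * u * x⁻¹) * ε (Pi.single p (η p) + Pi.single j (η j)) := by
      calc (x * u * x⁻¹ * u) * (t * (x * u * x⁻¹ * u) * t⁻¹)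
          = (x * u * x⁻¹) * (u * (t * (x * u * x⁻¹) * t⁻¹)) * (t * u * t⁻¹) := by group
        _ = (x * u * x⁻¹) * ((t * (x * u * x⁻¹) * t⁻¹) * u) *
            (u * ε (Pi.single p (η p) + Pi.single j (η j))) := by rw [h1, h.ab m _ hu' _ htux]
        _ = ((x * u * x⁻¹) * (t * (x * u * x⁻¹) * t⁻¹)) * (u * u) *
            ε (Pi.single p (η p) + Pi.single j (η j)) := by group
        _ = _ := by rw [h.sq_H hu, mul_one, h.ab m _ hux _ htux]
    have h3 : (t * (x * u * x⁻¹) * t⁻¹) * (x * u * x⁻¹) ∈ h.W := by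
      have h4 : (t * (x * u * x⁻¹) * t⁻¹) * (x * u * x⁻¹) =
          ε b * ε (Pi.single p (η p) + Pi.single j (η j)) := by
        rw [← hb, h2, mul_assoc _ (ε _), h.sqε, mul_one]
      rw [h4]
      exact mul_mem (h.ε_mem_W _) (h.ε_mem_W _)
    have h5 := h.W_conj hxi h3
    have h6 : x⁻¹ * ((t * (x * u * x⁻¹) * t⁻¹) * (x * u * x⁻¹)) * x⁻¹⁻¹ =
        x⁻¹ * t * x * u * (x⁻¹ * t * x)⁻¹ * u := by group
    rwa [h6] at h5
  -- the line of `g`
  have hgz : ∀ b, (x⁻¹ * t * x) * ε (Pi.single p 1) * (x⁻¹ * t * x)⁻¹ ≠ ε b := by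
    intro b hb
    have h1 : x * ε b * x⁻¹ = (x * ε (Pi.single p 1) * x⁻¹) * ε (Pi.single p s + Pi.single q s') := by
      rw [← hb, ← hte]
      group
    have hsD : (Pi.single p s + Pi.single q s' : ι → ZMod 2) p ≠ (Pi.single p s + Pi.single q s' : ι → ZMod 2) q := by
      rw [Pi.add_apply, Pi.add_apply, Pi.single_eq_same, Pi.single_eq_same, Pi.single_eq_of_ne h.pq,
        Pi.single_eq_of_ne h.pq.symm, add_zero, zero_add]
      clear hte h1
      revert hss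
      revert s s'
      decide
    by_cases hbb : b p = b q
    · rw [h.XD x hx b hbb, mul_inv_cancel_right] at h1
      refine h.nV p q _ hH (b + (Pi.single p s + Pi.single q s')) ?_
      rw [h.add, h1, mul_assoc (x * ε (Pi.single p 1) * x⁻¹), h.sqε, mul_one]
    · obtain ⟨d, hd, rfl⟩ := h.split b hbb
      have h2 : x * ε (Pi.single p 1 + d) * x⁻¹ = (x * ε (Pi.single p 1) * x⁻¹) * ε d := by
        rw [h.add]
        calc x * (ε (Pi.single p 1) * ε d) * x⁻¹ = x * ε (Pi.single p 1) * x⁻¹ * (x * ε d) * x⁻¹ := by group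
          _ = x * ε (Pi.single p 1) * x⁻¹ * (ε d * x) * x⁻¹ := by rw [h.XD x hx d hd]
          _ = (x * ε (Pi.single p 1) * x⁻¹) * ε d := by group
      rw [h2] at h1
      have h3 := mul_left_cancel h1
      -- `ε d = ε (s, s')` with `d` in `D`
      obtain ⟨m, hm1, hm2, -, -⟩ := exists_ne4 h.nine p q p p
      have h4 : ε (d + (Pi.single p s + Pi.single q s')) = 1 := by rw [h.add, h3, h.sqε]
      rcases h.ker _ h4 with h5 | h5
      · apply hsD
        have h6 := congrFun h5 p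
        have h7 := congrFun h5 q
        rw [Pi.add_apply, Pi.zero_apply] at h6 h7
        rw [← CharTwo.add_eq_zero.1 h6, ← CharTwo.add_eq_zero.1 h7]
        exact hd
      · apply hsD
        have h6 := congrFun h5 p
        have h7 := congrFun h5 q
        rw [Pi.add_apply, Pi.one_apply] at h6 h7
        rw [hd, ← h7] at h6
        exact add_left_cancel h6
  have hgH : H p q ((x⁻¹ * t * x) * ε (Pi.single p 1) * (x⁻¹ * t * x)⁻¹) :=
    (h.lin _ hgX).resolve_left (fun ⟨b, hb⟩ => hgz b hb)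
  have htg : h.Good (t * (x⁻¹ * t * x)) := h.good_mul htX
    (h.good_of_line htX (b := Pi.single p 1) (by rw [ht, mul_inv_cancel_right])) hg
  intro y hy
  rcases h.lin y hy with ⟨b, hb⟩ | hyH
  · exact h.good_of_line hy hb
  · -- `y z_p y⁻¹ = (g z_p g⁻¹) ε c`
    obtain ⟨c, hc⟩ := h.idx h.pq hgH hyH
    have h1 : y * ε (Pi.single p 1) * y⁻¹ = ((x⁻¹ * t * x) * ε (Pi.single p 1) * (x⁻¹ * t * x)⁻¹) * ε c := by
      rw [← hc, ← mul_assoc, h.sq_H hgH, one_mul]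
    by_cases hcc : c p = c q
    · exact h.good_of hy hgX h1 hcc hg
    · -- `g z_p g⁻¹ = e' ε c'`
      obtain ⟨c', hc'⟩ := h.idx h.pq hH hgH
      have h2 : (x⁻¹ * t * x) * ε (Pi.single p 1) * (x⁻¹ * t * x)⁻¹ = (x * ε (Pi.single p 1) * x⁻¹) * ε c' := by
        rw [← hc', ← mul_assoc, h.sq_H hH, one_mul]
      have h3 : (t * (x⁻¹ * t * x)) * ε (Pi.single p 1) * (t * (x⁻¹ * t * x))⁻¹ =
          ((x⁻¹ * t * x) * ε (Pi.single p 1) * (x⁻¹ * t * x)⁻¹) * ε (Pi.single p s + Pi.single q s') := by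
        calc (t * (x⁻¹ * t * x)) * ε (Pi.single p 1) * (t * (x⁻¹ * t * x))⁻¹
            = t * ((x⁻¹ * t * x) * ε (Pi.single p 1) * (x⁻¹ * t * x)⁻¹) * t⁻¹ := by group
          _ = (t * (x * ε (Pi.single p 1) * x⁻¹) * t⁻¹) * (t * ε c') * t⁻¹ := by rw [h2]; group
          _ = ((x * ε (Pi.single p 1) * x⁻¹) * ε (Pi.single p s + Pi.single q s')) * (ε c' * t) * t⁻¹ := by
              rw [hte, ht]
          _ = (x * ε (Pi.single p 1) * x⁻¹) * (ε (Pi.single p s + Pi.single q s') * ε c') := by group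
          _ = (x * ε (Pi.single p 1) * x⁻¹) * (ε c' * ε (Pi.single p s + Pi.single q s')) := by rw [h.cε _ c']
          _ = _ := by rw [h2]; group
      have h4 : y * ε (Pi.single p 1) * y⁻¹ =
          ((t * (x⁻¹ * t * x)) * ε (Pi.single p 1) * (t * (x⁻¹ * t * x))⁻¹) *
            ε (Pi.single p s + Pi.single q s' + c) := by
        rw [h3, h1, h.gaa]
      refine h.good_of hy (mul_mem htX hgX) h4 ?_ htg
      rw [Pi.add_apply, Pi.add_apply, Pi.add_apply, Pi.add_apply, Pi.single_eq_same, Pi.single_eq_same,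
        Pi.single_eq_of_ne h.pq, Pi.single_eq_of_ne h.pq.symm, add_zero, zero_add]
      generalize c p = r at hcc ⊢
      generalize c q = r' at hcc ⊢
      clear h1 h2 h3 h4 hte hc hc'
      revert hss hcc
      revert s s' r r'
      decide

end Fr

end Cfsg.Agent.Omega.NO3S.SN2.CL.SecTwo
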