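import Cfsg.Agent.Omega.NO3S.SN2.CL.Out
import Cfsg.Agent.Omega.NO3S.SN2.CL.SecTwo

/-!
# THEOREM CL (helper928, #22306, #22823): the type II end, over `Zr V ε` and (K1)

`two_end` : `i ≠ j`, `x₀ ∈ XX ε i j` outside `N(V)`, `v ∈ C_G(V)` with `x₀⁻¹ v x₀ ∉ N(V)`; if the classes
`κ_k(x₀) u_k Wd` (`k ≠ i, j`) are equal then `x u x⁻¹ * u ∈ Wd V ε i j` for all `x ∈ XX ε i j`, `u ∈ Hv i k`.

`eta` : the coefficient function of an element of `C_G(V)`.
-/

set_option autoImplicit false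
set_option linter.unusedSectionVars false

namespace Cfsg.Agent.Omega.NO3S.SN2.CL

open Subgroup Cfsg.Agent.Omega.S5.Def Cfsg.Agent.Omega.NSix.Base Cfsg.Agent.Omega.NSix.Basic
open Cfsg.Agent.Omega.NO3S.SN2.PathW (XX tt mem_XX)

universe u

variable {G : Type u} [Group G] {n : ℕ} {V : Subgroup G} {ε : (Fin n → ZMod 2) → G}

/-- (K1) -/
def KOne (V : Subgroup G) (ε : (Fin n → ZMod 2) → G) : Prop :=
  ∀ i j k, i ≠ j → i ≠ k → j ≠ k → ∀ u v w, Hv V ε i j u → Hv V ε i k v → Hv V ε j k w → u * v * w ∈ V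

theorem tt_eq_single (i j : Fin n) (a b : ZMod 2) : tt ε i j a b = ε (Pi.single i a + Pi.single j b) := by
  unfold tt
  rw [← Pi.single_smul, ← Pi.single_smul, smul_eq_mul, smul_eq_mul, mul_one, mul_one]

namespace Hyp

variable (h : Hyp V ε)

include h

theorem Ud_comm (i : Fin n) : ∀ x ∈ Ud V ε i, ∀ y ∈ Ud V ε i, x * y = y * x := by
  have h1 : ∀ x ∈ Ud V ε i, ∀ g ∈ centralizer ({zz ε i} : Set G), ∀ v ∈ V,
      x * (g * v * g⁻¹) = (g * v * g⁻¹) * x := by
    intro x hx g hg v hv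
    unfold Ud at hx
    induction hx using closure_induction with
    | mem y hy =>
      obtain ⟨k, hk, w, hw, rfl⟩ := hy
      have h2 := h.ua i (k⁻¹ * g) (mul_mem (inv_mem hk) hg) w hw v hv
      calc k * w * k⁻¹ * (g * v * g⁻¹) = k * (w * ((k⁻¹ * g) * v * (k⁻¹ * g)⁻¹)) * k⁻¹ := by group
        _ = k * ((k⁻¹ * g) * v * (k⁻¹ * g)⁻¹ * w) * k⁻¹ := by rw [h2]
        _ = g * v * g⁻¹ * (k * w * k⁻¹) := by group
    | one => rw [one_mul, mul_one]
    | mul a b _ _ ha hb => rw [mul_assoc, hb, ← mul_assoc, ha, mul_assoc]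
    | inv a _ ha =>
      calc a⁻¹ * (g * v * g⁻¹) = a⁻¹ * ((g * v * g⁻¹) * a) * a⁻¹ := by group
        _ = a⁻¹ * (a * (g * v * g⁻¹)) * a⁻¹ := by rw [ha]
        _ = (g * v * g⁻¹) * a⁻¹ := by group
  intro x hx y hy
  unfold Ud at hy
  induction hy using closure_induction with
  | mem y hy =>
    obtain ⟨k, hk, w, hw, rfl⟩ := hy
    exact h1 x hx k hk w hw
  | one => rw [one_mul, mul_one]
  | mul a b _ _ ha hb => rw [← mul_assoc, ha, mul_assoc, hb, ← mul_assoc]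
  | inv a _ ha =>
    calc x * a⁻¹ = a⁻¹ * (a * x) * a⁻¹ := by group
      _ = a⁻¹ * (x * a) * a⁻¹ := by rw [ha]
      _ = a⁻¹ * x := by group

theorem Ud_sq (i : Fin n) : ∀ x ∈ Ud V ε i, x * x = 1 := by
  intro x hx
  have hx' := hx
  unfold Ud at hx'
  induction hx' using closure_induction with
  | mem y hy =>
    obtain ⟨k, _, w, hw, rfl⟩ := hy
    calc k * w * k⁻¹ * (k * w * k⁻¹) = k * (w * w) * k⁻¹ := by group
      _ = 1 := by rw [h.ev.sq_mem hw]; group
  | one => rw [one_mul]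
  | mul a b ha0 hb0 ha hb =>
    have ha' : a ∈ Ud V ε i := ha0
    have hb' : b ∈ Ud V ε i := hb0
    calc a * b * (a * b) = a * (b * a) * b := by group
      _ = a * (a * b) * b := by rw [h.Ud_comm i b hb' a ha']
      _ = (a * a) * (b * b) := by group
      _ = 1 := by rw [ha ha', hb hb', one_mul]
  | inv a ha0 ha =>
    have ha' : a ∈ Ud V ε i := ha0
    calc a⁻¹ * a⁻¹ = (a * a)⁻¹ := by group
      _ = 1 := by rw [ha ha', inv_one]

omit h in
theorem V_le_Ud (i : Fin n) : V ≤ Ud V ε i := fun v hv =>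
  subset_closure ⟨1, one_mem _, v, hv, by group⟩

omit h in
theorem XX_le_cent {i j m : Fin n} (hi : m ≠ i) (hj : m ≠ j) {x : G} (hx : x ∈ XX ε i j) :
    x ∈ centralizer ({zz ε m} : Set G) := by
  rw [mem_centralizer_singleton_iff]
  exact mem_XX.1 hx _ (by rw [Pi.single_eq_of_ne hi.symm, Pi.single_eq_of_ne hj.symm])

omit h in
theorem Ud_conj {i : Fin n} {x : G} (hx : x ∈ centralizer ({zz ε i} : Set G)) :
    ∀ w ∈ Ud V ε i, x * w * x⁻¹ ∈ Ud V ε i := by
  intro w hw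
  unfold Ud at hw
  induction hw using closure_induction with
  | mem y hy =>
    obtain ⟨k, hk, v, hv, rfl⟩ := hy
    exact subset_closure ⟨x * k, mul_mem hx hk, v, hv, by group⟩
  | one => rw [mul_one, mul_inv_cancel]; exact one_mem _
  | mul a b _ _ ha hb =>
    have e : x * (a * b) * x⁻¹ = (x * a * x⁻¹) * (x * b * x⁻¹) := by group
    rw [e]
    exact mul_mem ha hb
  | inv a _ ha =>
    have e : x * a⁻¹ * x⁻¹ = (x * a * x⁻¹)⁻¹ := by group
    rw [e]
    exact inv_mem ha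

theorem mem_iff {v : G} : v ∈ V ↔ ∃ a, v = ε a :=
  ⟨fun hv => (h.ev.surj v hv).imp fun _ e => e.symm, fun ⟨a, ha⟩ => ha ▸ h.ev.mem a⟩

theorem cent_iff {c : G} : c ∈ centralizer (V : Set G) ↔ ∀ a, c * ε a = ε a * c := by
  rw [mem_centralizer_iff]
  constructor
  · intro h1 a
    exact (h1 _ (h.ev.mem a)).symm
  · intro h1 v hv
    obtain ⟨a, rfl⟩ := h.mem_iff.1 hv
    exact (h1 a).symm

end Hyp

namespace Zr

variable (z : Zr V ε)

include z

theorem hv_ne {i j : Fin n} {u : G} (hu : Hv V ε i j u) : i ≠ j := by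
  rintro rfl
  obtain ⟨h1, x, hx, h2⟩ := hu
  apply h1
  rw [← h2]
  have h3 : x * zz ε i = zz ε i * x := mem_XX.1 hx _ rfl
  rw [h3, mul_inv_cancel_right]
  exact z.hyp.ev.mem _

theorem hv_Ud {i j m : Fin n} (hi : m ≠ i) (hj : m ≠ j) {u : G} (hu : Hv V ε i j u) : u ∈ Ud V ε m :=
  z.le_Ud i j m (z.hv_ne hu) hi hj (z.hmem i j u (z.hv_ne hu) hu)

/-- **the coefficient function** of an element of `C_G(V)` -/
theorem eta (k1 : KOne V ε) {c : G} (hc : c ∈ centralizer (V : Set G)) :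
    ∃ η : Fin n → ZMod 2, ∀ i j, i ≠ j → ∀ u ∈ Wd V ε i j, u ∉ V →
      c * u * c⁻¹ = u * ε (Pi.single i (η i) + Pi.single j (η j)) := by
  have hn : 9 ≤ Fintype.card (Fin n) := by rw [Fintype.card_fin]; exact z.hyp.nine
  choose a b hab using fun (i j : Fin n) (hij : i ≠ j) => z.br i j hij c hc
  have key : ∀ (i j k : Fin n) (hij : i ≠ j) (hik : i ≠ k) (hjk : j ≠ k),
      a i j hij = a i k hik ∧ b i j hij = a j k hjk := by
    intro i j k hij hik hjk
    obtain ⟨u, hu⟩ := z.hex i j hij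
    obtain ⟨v, hv⟩ := z.hex i k hik
    obtain ⟨w, hw⟩ := z.hex j k hjk
    obtain ⟨m, hm1, hm2, hm3, -⟩ := SecTwo.exists_ne4 hn i j k k
    have hu' := z.hv_Ud hm1 hm2 hu
    have hv' := z.hv_Ud hm1 hm3 hv
    have hw' := z.hv_Ud hm2 hm3 hw
    have h1 := hab i j hij u (z.hmem i j u hij hu) hu.1
    have h2 := hab i k hik v (z.hmem i k v hik hv) hv.1
    have h3 := hab j k hjk w (z.hmem j k w hjk hw) hw.1
    rw [tt_eq_single] at h1 h2 h3
    have h4 := k1 i j k hij hik hjk u v w hu hv hw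
    have h5 : c * (u * v * w) * c⁻¹ = u * v * w := by
      obtain ⟨y, hy⟩ := z.hyp.mem_iff.1 h4
      rw [hy, z.hyp.cent_iff.1 hc, mul_inv_cancel_right]
    generalize a i j hij = a1 at *
    generalize b i j hij = b1 at *
    generalize a i k hik = a2 at *
    generalize b i k hik = b2 at *
    generalize a j k hjk = a3 at *
    generalize b j k hjk = b3 at *
    have hε : ∀ y, ε y ∈ Ud V ε m := fun y => Hyp.V_le_Ud m (z.hyp.ev.mem y)
    have h6 : c * (u * v * w) * c⁻¹ = (u * v * w) *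
        ε ((Pi.single i a1 + Pi.single j b1) + (Pi.single i a2 + Pi.single k b2) +
          (Pi.single j a3 + Pi.single k b3)) := by
      calc c * (u * v * w) * c⁻¹ = (c * u * c⁻¹) * (c * v * c⁻¹) * (c * w * c⁻¹) := by group
        _ = (u * ε (Pi.single i a1 + Pi.single j b1)) * (v * ε (Pi.single i a2 + Pi.single k b2)) *
            (w * ε (Pi.single j a3 + Pi.single k b3)) := by rw [h1, h2, h3]
        _ = u * (ε (Pi.single i a1 + Pi.single j b1) * v) * (ε (Pi.single i a2 + Pi.single k b2) * w) *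
            ε (Pi.single j a3 + Pi.single k b3) := by group
        _ = u * (v * ε (Pi.single i a1 + Pi.single j b1)) * (w * ε (Pi.single i a2 + Pi.single k b2)) *
            ε (Pi.single j a3 + Pi.single k b3) := by
            rw [z.hyp.Ud_comm m _ (hε _) _ hv', z.hyp.Ud_comm m _ (hε _) _ hw']
        _ = u * v * (ε (Pi.single i a1 + Pi.single j b1) * w) * ε (Pi.single i a2 + Pi.single k b2) *
            ε (Pi.single j a3 + Pi.single k b3) := by group
        _ = u * v * (w * ε (Pi.single i a1 + Pi.single j b1)) * ε (Pi.single i a2 + Pi.single k b2) *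
            ε (Pi.single j a3 + Pi.single k b3) := by rw [z.hyp.Ud_comm m _ (hε _) _ hw']
        _ = (u * v * w) * (ε (Pi.single i a1 + Pi.single j b1) * ε (Pi.single i a2 + Pi.single k b2) *
            ε (Pi.single j a3 + Pi.single k b3)) := by group
        _ = _ := by rw [← z.hyp.ev.add, ← z.hyp.ev.add]
    rw [h5] at h6
    have h7 := (z.hyp.ev.ker _).1 (mul_eq_left.1 h6.symm)
    have hm0 : ((Pi.single i a1 + Pi.single j b1) + (Pi.single i a2 + Pi.single k b2) +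
          (Pi.single j a3 + Pi.single k b3) : Fin n → ZMod 2) m = 0 := by
      simp [Pi.add_apply, Pi.single_eq_of_ne hm1, Pi.single_eq_of_ne hm2, Pi.single_eq_of_ne hm3]
    have h8 : ((Pi.single i a1 + Pi.single j b1) + (Pi.single i a2 + Pi.single k b2) +
          (Pi.single j a3 + Pi.single k b3) : Fin n → ZMod 2) = 0 := by
      rcases h7 with h7 | h7
      · exact h7
      · rw [h7] at hm0
        exact absurd hm0 (by simp)
    have h9 := congrFun h8 i
    have h10 := congrFun h8 j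
    simp only [Pi.add_apply, Pi.single_eq_same, Pi.single_eq_of_ne hij, Pi.single_eq_of_ne hik, Pi.zero_apply,
      add_zero] at h9
    simp only [Pi.add_apply, Pi.single_eq_same, Pi.single_eq_of_ne hij.symm, Pi.single_eq_of_ne hjk, Pi.zero_apply,
      add_zero, zero_add] at h10
    exact ⟨CharTwo.add_eq_zero.1 h9, CharTwo.add_eq_zero.1 h10⟩
  have hex : ∀ i : Fin n, ∃ s : ZMod 2, ∀ (j : Fin n) (hij : i ≠ j), a i j hij = s := by
    intro i
    obtain ⟨j0, hj0, -, -, -⟩ := SecTwo.exists_ne4 hn i i i i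
    refine ⟨a i j0 hj0.symm, fun j hij => ?_⟩
    by_cases e : j = j0
    · subst e
      rfl
    · exact (key i j j0 hij hj0.symm e).1
  choose η hη using hex
  refine ⟨η, fun i j hij u hu huV => ?_⟩
  obtain ⟨k, hk1, hk2, -, -⟩ := SecTwo.exists_ne4 hn i j j j
  have h1 := hab i j hij u hu huV
  rw [tt_eq_single, (key i j k hij hk1.symm hk2.symm).2, hη i j hij, hη j k hk2.symm] at h1
  exact h1

/-- **the situation of `SecTwo`** -/
theorem fr (k1 : KOne V ε) {p q : Fin n} (hpq : p ≠ q) :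
    SecTwo.Fr ε (XX ε p q) (Ud V ε) (Hv V ε) p q where
  pq := hpq
  nine := by rw [Fintype.card_fin]; exact z.hyp.nine
  add := z.hyp.ev.add
  ker := fun a ha => (z.hyp.ev.ker a).1 ha
  XD := fun x hx a ha => mem_XX.1 hx a ha
  cX := fun c hc => mem_XX.2 fun a _ => hc a
  perm := by
    intro x hx
    refine z.hyp.ev.perm x ?_
    have h1 : ∀ v ∈ V, x * v * x⁻¹ ∈ V := by
      intro v hv
      obtain ⟨a, rfl⟩ := z.hyp.mem_iff.1 hv
      obtain ⟨b, hb⟩ := hx a
      rw [hb]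
      exact z.hyp.ev.mem b
    have hfin : Set.Finite (V : Set G) := by
      have : (V : Set G) ⊆ Set.range ε := by
        intro v hv
        obtain ⟨a, rfl⟩ := z.hyp.mem_iff.1 hv
        exact ⟨a, rfl⟩
      exact (Set.finite_range ε).subset this
    have h2 : (fun v => x * v * x⁻¹) '' (V : Set G) = V := by
      refine Set.eq_of_subset_of_ncard_le ?_ ?_ hfin
      · rintro _ ⟨v, hv, rfl⟩
        exact h1 v hv
      · rw [Set.ncard_image_of_injective]
        intro v w hvw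
        simpa using hvw
    rw [mem_normalizer_iff]
    intro v
    constructor
    · exact h1 v
    · intro hv
      have hv' : x * v * x⁻¹ ∈ (fun v => x * v * x⁻¹) '' (V : Set G) := by rw [h2]; exact hv
      obtain ⟨w, hw, e⟩ := hv'
      have : w = v := by simpa using e
      rwa [← this]
  symH := by
    intro i j u hu
    exact z.hsymm i j u (z.hv_ne hu) hu
  exH := z.hex
  nV := by
    rintro i j u ⟨h1, -⟩ a rfl
    exact h1 (z.hyp.ev.mem a)
  act := fun m σ hm i j u hu => z.hconj m σ hm i j u hu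
  eta := by
    intro c hc
    obtain ⟨η, hη⟩ := z.eta k1 (z.hyp.cent_iff.2 hc)
    exact ⟨η, fun i j hij u hu => hη i j hij u (z.hmem i j u hij hu) hu.1⟩
  k1 := by
    intro i j k hij hik hjk u v w hu hv hw
    exact z.hyp.mem_iff.1 (k1 i j k hij hik hjk u v w hu hv hw)
  uU := fun i j m hi hj u hu => z.hv_Ud hi hj hu
  εU := fun a m => Hyp.V_le_Ud m (z.hyp.ev.mem a)
  ab := z.hyp.Ud_comm
  sq := z.hyp.Ud_sq
  XU := fun x hx m hp hq w hw => Hyp.Ud_conj (Hyp.XX_le_cent hp hq hx) w hw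
  CV := by
    intro m w hw hc
    exact z.hyp.mem_iff.1 (z.hyp.cv m w hw fun c hcc => hc c (z.hyp.cent_iff.1 hcc))
  lin := by
    intro x hx
    by_cases h1 : x * zz ε p * x⁻¹ ∈ V
    · exact Or.inl (z.hyp.mem_iff.1 h1)
    · exact Or.inr ⟨h1, x, hx, rfl⟩
  linH := by
    rintro x hx u ⟨hu, y, hy, rfl⟩
    by_cases h1 : x * (y * zz ε p * y⁻¹) * x⁻¹ ∈ V
    · exact Or.inl (z.hyp.mem_iff.1 h1)
    · exact Or.inr ⟨h1, x * y, mul_mem hx hy, by group⟩

/-- `Wd V ε p q = W` -/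
theorem mem_W (k1 : KOne V ε) {p q : Fin n} (hpq : p ≠ q) {g : G} :
    g ∈ (z.fr k1 hpq).W ↔ g ∈ Wd V ε p q := by
  constructor
  · rintro (⟨a, rfl⟩ | ⟨u, a, hu, rfl⟩)
    · exact z.V_le p q (z.hyp.ev.mem a)
    · exact mul_mem (z.hmem p q u hpq hu) (z.V_le p q (z.hyp.ev.mem a))
  · intro hg
    by_cases h1 : g ∈ V
    · exact Or.inl (z.hyp.mem_iff.1 h1)
    · obtain ⟨u, hu⟩ := z.hex p q hpq
      obtain ⟨a, ha⟩ := z.hyp.mem_iff.1 (z.hyp.two p q hpq u (z.hmem p q u hpq hu) g hg hu.1 h1)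
      refine Or.inr ⟨u, a, hu, ?_⟩
      rw [← ha, ← mul_assoc, z.sq p q hpq u (z.hmem p q u hpq hu), one_mul]

/-- an element of `XX` outside `N(V)` moves `z_p` out of `V` -/
theorem out (k1 : KOne V ε) {p q : Fin n} (hpq : p ≠ q) {x : G} (hx : x ∈ XX ε p q)
    (hxn : x ∉ normalizer (V : Set G)) : Hv V ε p q (x * zz ε p * x⁻¹) := by
  refine ⟨fun hc => hxn ?_, x, hx, rfl⟩
  obtain ⟨b, hb⟩ := z.hyp.mem_iff.1 hc
  obtain ⟨σ, hσ, -⟩ := (z.fr k1 hpq).nX hx hb
  have hmem : ∀ v, v ∈ V ↔ x * v * x⁻¹ ∈ V := by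
    intro v
    constructor
    · intro hv
      obtain ⟨a, rfl⟩ := z.hyp.mem_iff.1 hv
      rw [hσ a]
      exact z.hyp.ev.mem _
    · intro hv
      obtain ⟨a, ha⟩ := z.hyp.mem_iff.1 hv
      have h1 := hσ (a ∘ σ)
      have h2 : (a ∘ σ) ∘ σ.symm = a := by
        funext i
        simp
      rw [h2, ← ha] at h1
      have h3 : v = ε (a ∘ σ) := (mul_left_cancel (mul_right_cancel h1)).symm
      rw [h3]
      exact z.hyp.ev.mem _
  exact mem_normalizer_iff.2 hmem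

/-- **TYPE II END** -/
theorem two_end (k1 : KOne V ε) {p q : Fin n} (hpq : p ≠ q) {x₀ : G} (hx : x₀ ∈ XX ε p q)
    (hxn : x₀ ∉ normalizer (V : Set G))
    (hH : ∀ k l, k ≠ p → k ≠ q → l ≠ p → l ≠ q → k ≠ l → ∃ u w, Hv V ε p k u ∧ Hv V ε p l w ∧
      (x₀ * u * x₀⁻¹ * u) * (x₀ * w * x₀⁻¹ * w) ∈ Wd V ε p q) :
    ∀ x ∈ XX ε p q, ∀ k, k ≠ p → k ≠ q → ∀ u, Hv V ε p k u → x * u * x⁻¹ * u ∈ Wd V ε p q := by
  have hf := z.fr k1 hpq
  have hn : 9 ≤ Fintype.card (Fin n) := by rw [Fintype.card_fin]; exact z.hyp.nine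
  -- the class of `u'u` does not depend on `u`
  have hidx : ∀ k, k ≠ p → k ≠ q → ∀ u u', Hv V ε p k u → Hv V ε p k u' →
      (x₀ * u * x₀⁻¹ * u) * (x₀ * u' * x₀⁻¹ * u') ∈ Wd V ε p q := by
    intro k hkp hkq u u' hu hu'
    obtain ⟨m, hm1, hm2, hm3, -⟩ := SecTwo.exists_ne4 hn p q k k
    obtain ⟨a, ha⟩ := hf.idx hkp.symm hu hu'
    have hU : ∀ y, Hv V ε p k y → x₀ * y * x₀⁻¹ ∈ Ud V ε m := fun y hy =>
      Hyp.Ud_conj (Hyp.XX_le_cent hm1 hm2 hx) y (z.hv_Ud hm1 hm3 hy)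
    have h1 : (x₀ * u * x₀⁻¹ * u) * (x₀ * u' * x₀⁻¹ * u') = (x₀ * ε a * x₀⁻¹) * ε a := by
      rw [← ha]
      calc (x₀ * u * x₀⁻¹ * u) * (x₀ * u' * x₀⁻¹ * u')
          = (x₀ * u * x₀⁻¹) * (u * (x₀ * u' * x₀⁻¹)) * u' := by group
        _ = (x₀ * u * x₀⁻¹) * ((x₀ * u' * x₀⁻¹) * u) * u' := by
            rw [z.hyp.Ud_comm m _ (z.hv_Ud hm1 hm3 hu) _ (hU u' hu')]
        _ = (x₀ * (u * u') * x₀⁻¹) * (u * u') := by group
    rw [h1]
    exact mul_mem (z.nor p q x₀ hx _ (z.V_le p q (z.hyp.ev.mem a))) (z.V_le p q (z.hyp.ev.mem a))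
  have hP : hf.HP x₀ := by
    intro j k hjp hjq hkp hkq u v hu hv
    rw [z.mem_W k1 hpq]
    by_cases hjk : j = k
    · subst hjk
      exact hidx j hjp hjq u v hu hv
    · obtain ⟨u', v', hu', hv', h1⟩ := hH j k hjp hjq hkp hkq hjk
      have h2 := hidx j hjp hjq u u' hu hu'
      have h3 := hidx k hkp hkq v' v hv' hv
      obtain ⟨m, hm1, hm2, hm3, hm4⟩ := SecTwo.exists_ne4 hn p q j k
      have hU : ∀ l, m ≠ l → ∀ y, Hv V ε p l y → x₀ * y * x₀⁻¹ * y ∈ Ud V ε m := fun l hl y hy =>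
        mul_mem (Hyp.Ud_conj (Hyp.XX_le_cent hm1 hm2 hx) y (z.hv_Ud hm1 hl hy)) (z.hv_Ud hm1 hl hy)
      have h4 := mul_mem (mul_mem h2 h1) h3
      have h5 : ((x₀ * u * x₀⁻¹ * u) * (x₀ * u' * x₀⁻¹ * u')) * ((x₀ * u' * x₀⁻¹ * u') * (x₀ * v' * x₀⁻¹ * v')) *
          ((x₀ * v' * x₀⁻¹ * v') * (x₀ * v * x₀⁻¹ * v)) = (x₀ * u * x₀⁻¹ * u) * (x₀ * v * x₀⁻¹ * v) := by
        have h6 := z.hyp.Ud_sq m _ (hU j hm3 u' hu')
        have h7 := z.hyp.Ud_sq m _ (hU k hm4 v' hv')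
        generalize x₀ * u' * x₀⁻¹ * u' = A at *
        generalize x₀ * v' * x₀⁻¹ * v' = B at *
        generalize x₀ * u * x₀⁻¹ * u = C at *
        generalize x₀ * v * x₀⁻¹ * v = D at *
        calc (C * A) * (A * B) * (B * D) = C * (A * A) * (B * B) * D := by group
          _ = C * D := by rw [h6, h7, mul_one, mul_one]
      rwa [h5] at h4
  have hHv := z.out k1 hpq hx hxn
  -- the swapper
  obtain ⟨t, ht, htu⟩ := z.onto p q hpq 1 0
  have hs : SecTwo.Fr.Sw ε p q (x₀ * ε (Pi.single p 1) * x₀⁻¹) t := by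
    refine ⟨1, 0, by decide, ?_⟩
    have h1 := htu _ (z.hmem p q _ hpq hHv) hHv.1
    rw [tt_eq_single] at h1
    exact h1
  intro x hx' k hkp hkq u hu
  exact (z.mem_W k1 hpq).1 (hf.typeTwo hx hHv hP (z.hyp.cent_iff.1 ht) hs x hx' k hkp hkq u hu)

end Zr

/-- `U_V`, generated by the lines adjacent to `V` -/
def UU (V : Subgroup G) (ε : (Fin n → ZMod 2) → G) : Subgroup G :=
  closure {g | ∃ i j, i ≠ j ∧ g ∈ Wd V ε i j}

namespace Zr

variable (z : Zr V ε)

include z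

theorem Wd_le_UU {i j : Fin n} (hij : i ≠ j) : Wd V ε i j ≤ UU V ε := fun _ hg => subset_closure ⟨i, j, hij, hg⟩

/-- every element of the normaliser of the line normalises `U_V` -/
theorem UU_acts {g : G} {σ : Equiv.Perm (Fin n)} (hg : Acts ε g σ) : ∀ w ∈ UU V ε, g * w * g⁻¹ ∈ UU V ε := by
  intro w hw
  unfold UU at hw
  induction hw using closure_induction with
  | mem y hy =>
    obtain ⟨i, j, hij, hy⟩ := hy
    exact z.Wd_le_UU (fun e => hij (σ.injective e)) (z.conj g σ hg i j y hy)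
  | one => rw [mul_one, mul_inv_cancel]; exact one_mem _
  | mul a b _ _ ha hb =>
    have e : g * (a * b) * g⁻¹ = (g * a * g⁻¹) * (g * b * g⁻¹) := by group
    rw [e]
    exact mul_mem ha hb
  | inv a _ ha =>
    have e : g * a⁻¹ * g⁻¹ = (g * a * g⁻¹)⁻¹ := by group
    rw [e]
    exact inv_mem ha

/-- `U_V` is elementary abelian -/
theorem UU_comm : ∀ x ∈ UU V ε, ∀ y ∈ UU V ε, x * y = y * x := by
  have hn : 9 ≤ Fintype.card (Fin n) := by rw [Fintype.card_fin]; exact z.hyp.nine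
  have h0 : ∀ i j, i ≠ j → ∀ x ∈ Wd V ε i j, ∀ k l, k ≠ l → ∀ y ∈ Wd V ε k l, x * y = y * x := by
    intro i j hij x hx k l hkl y hy
    obtain ⟨m, hm1, hm2, hm3, hm4⟩ := SecTwo.exists_ne4 hn i j k l
    exact z.hyp.Ud_comm m x (z.le_Ud i j m hij hm1 hm2 hx) y (z.le_Ud k l m hkl hm3 hm4 hy)
  have h1 : ∀ x ∈ UU V ε, ∀ k l, k ≠ l → ∀ y ∈ Wd V ε k l, x * y = y * x := by
    intro x hx k l hkl y hy
    unfold UU at hx
    induction hx using closure_induction with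
    | mem x hx =>
      obtain ⟨i, j, hij, hx⟩ := hx
      exact h0 i j hij x hx k l hkl y hy
    | one => rw [one_mul, mul_one]
    | mul a b _ _ ha hb => rw [mul_assoc, hb, ← mul_assoc, ha, mul_assoc]
    | inv a _ ha =>
      calc a⁻¹ * y = a⁻¹ * (y * a) * a⁻¹ := by group
        _ = a⁻¹ * (a * y) * a⁻¹ := by rw [ha]
        _ = y * a⁻¹ := by group
  intro x hx y hy
  unfold UU at hy
  induction hy using closure_induction with
  | mem y hy =>
    obtain ⟨i, j, hij, hy⟩ := hy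
    exact h1 x hx i j hij y hy
  | one => rw [one_mul, mul_one]
  | mul a b _ _ ha hb => rw [← mul_assoc, ha, mul_assoc, hb, ← mul_assoc]
  | inv a _ ha =>
    calc x * a⁻¹ = a⁻¹ * (a * x) * a⁻¹ := by group
      _ = a⁻¹ * (x * a) * a⁻¹ := by rw [ha]
      _ = a⁻¹ * x := by group

/-- **if the classes are constant then `XX ε p q` normalises `U_V`** -/
theorem UU_XX (k1 : KOne V ε) {p q : Fin n} (hpq : p ≠ q)
    (hH : ∀ x ∈ XX ε p q, ∀ k, k ≠ p → k ≠ q → ∀ u, Hv V ε p k u → x * u * x⁻¹ * u ∈ Wd V ε p q) {x : G}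
    (hx : x ∈ XX ε p q) : ∀ w ∈ UU V ε, x * w * x⁻¹ ∈ UU V ε := by
  have hn : 9 ≤ Fintype.card (Fin n) := by rw [Fintype.card_fin]; exact z.hyp.nine
  have hV : ∀ v ∈ V, x * v * x⁻¹ ∈ UU V ε := fun v hv =>
    z.Wd_le_UU hpq (z.nor p q x hx v (z.V_le p q hv))
  -- heavy vectors of the pairs `p k`
  have h1 : ∀ k, k ≠ p → ∀ u, Hv V ε p k u → x * u * x⁻¹ ∈ UU V ε := by
    intro k hkp u hu
    by_cases hkq : k = q
    · subst hkq
      exact z.Wd_le_UU hpq (z.nor p k x hx u (z.hmem p k u hpq hu))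
    · have h2 : x * u * x⁻¹ = (x * u * x⁻¹ * u) * u := by
        rw [mul_assoc (x * u * x⁻¹), z.sq p k hkp.symm u (z.hmem p k u hkp.symm hu), mul_one]
      rw [h2]
      exact mul_mem (z.Wd_le_UU hpq (hH x hx k hkp hkq u hu))
        (z.Wd_le_UU hkp.symm (z.hmem p k u hkp.symm hu))
  have h3 : ∀ i j, i ≠ j → ∀ u, Hv V ε i j u → x * u * x⁻¹ ∈ UU V ε := by
    intro i j hij u hu
    by_cases hip : i = p
    · subst hip
      exact h1 j hij.symm u hu
    · by_cases hjp : j = p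
      · subst hjp
        exact h1 i hip u (z.hsymm i j u hij hu)
      · obtain ⟨v, hv⟩ := z.hex p i (Ne.symm hip)
        obtain ⟨w, hw⟩ := z.hex p j (Ne.symm hjp)
        have h4 := k1 p i j (Ne.symm hip) (Ne.symm hjp) hij v w u hv hw hu
        have hvs := z.sq p i (Ne.symm hip) v (z.hmem p i v (Ne.symm hip) hv)
        have hws := z.sq p j (Ne.symm hjp) w (z.hmem p j w (Ne.symm hjp) hw)
        have h5 : x * u * x⁻¹ = (x * w * x⁻¹) * (x * v * x⁻¹) * (x * (v * w * u) * x⁻¹) := by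
          calc x * u * x⁻¹ = x * (w * (v * v) * w * u) * x⁻¹ := by rw [hvs, mul_one, hws, one_mul]
            _ = (x * w * x⁻¹) * (x * v * x⁻¹) * (x * (v * w * u) * x⁻¹) := by group
        rw [h5]
        exact mul_mem (mul_mem (h1 j hjp w hw) (h1 i hip v hv)) (hV _ h4)
  intro w hw
  unfold UU at hw
  induction hw using closure_induction with
  | mem y hy =>
    obtain ⟨i, j, hij, hy⟩ := hy
    by_cases hyV : y ∈ V
    · exact hV y hyV
    · obtain ⟨u, hu⟩ := z.hex i j hij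
      have hu' := z.hmem i j u hij hu
      have h4 := z.hyp.two i j hij u hu' y hy hu.1 hyV
      have h5 : x * y * x⁻¹ = (x * u * x⁻¹) * (x * (u * y) * x⁻¹) := by
        calc x * y * x⁻¹ = x * ((u * u) * y) * x⁻¹ := by rw [z.sq i j hij u hu', one_mul]
          _ = (x * u * x⁻¹) * (x * (u * y) * x⁻¹) := by group
      rw [h5]
      exact mul_mem (h3 i j hij u hu) (hV _ h4)
  | one => rw [mul_one, mul_inv_cancel]; exact one_mem _
  | mul a b _ _ ha hb =>
    have e : x * (a * b) * x⁻¹ = (x * a * x⁻¹) * (x * b * x⁻¹) := by group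
    rw [e]
    exact mul_mem ha hb
  | inv a _ ha =>
    have e : x * a⁻¹ * x⁻¹ = (x * a * x⁻¹)⁻¹ := by group
    rw [e]
    exact inv_mem ha

end Zr

end Cfsg.Agent.Omega.NO3S.SN2.CL
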