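import Cfsg.Agent.Omega.NO3S.SN2.CL.Two

/-!
# THEOREM CL (helper928, #22306): from TYPE I to TYPE II

`c ∈ C_G(V)`, `[U_V, c] ≤ Δ` with `|Δ| ≤ 4`: at most two letters `i` have `η_i(c) = 1`; so if `η_p = η_q = 1` then for every
`j ≠ p, q` the element `c` acts on `Wd p j` by `z_p` : TYPE II.
-/

set_option autoImplicit false
set_option linter.unusedSectionVars false

namespace Cfsg.Agent.Omega.NO3S.SN2.CL

open Subgroup Cfsg.Agent.Omega.S5.Def Cfsg.Agent.Omega.NSix.Base Cfsg.Agent.Omega.NSix.Basic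
open Cfsg.Agent.Omega.NO3S.SN2.PathW (XX tt mem_XX)

universe u

variable {G : Type u} [Group G] {n : ℕ} {V : Subgroup G} {ε : (Fin n → ZMod 2) → G}

namespace Zr

variable (z : Zr V ε)

include z

/-- at most two letters -/
theorem few {c : G} {η : Fin n → ZMod 2}
    (hη : ∀ i j, i ≠ j → ∀ u ∈ Wd V ε i j, u ∉ V → c * u * c⁻¹ = u * ε (Pi.single i (η i) + Pi.single j (η j)))
    (Δ : Subgroup G) [Finite Δ] (h4 : Nat.card Δ ≤ 4)
    (hΔ : ∀ i j, i ≠ j → ∃ u, Hv V ε i j u ∧ u⁻¹ * (c * u * c⁻¹) ∈ Δ) {i j k : Fin n} (hij : i ≠ j) (hik : i ≠ k)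
    (hjk : j ≠ k) (hi : η i = 1) (hj : η j = 1) : η k = 0 := by
  have hn : 9 ≤ Fintype.card (Fin n) := by rw [Fintype.card_fin]; exact z.hyp.nine
  by_contra hk0
  have hk : η k = 1 := SecTwo.z2a _ hk0
  have hmem : ∀ a b, a ≠ b → ε (Pi.single a (η a) + Pi.single b (η b)) ∈ Δ := by
    intro a b hab
    obtain ⟨u, hu, h1⟩ := hΔ a b hab
    rwa [hη a b hab u (z.hmem a b u hab hu) hu.1, inv_mul_cancel_left] at h1
  obtain ⟨l, hl1, hl2, hl3, -⟩ := SecTwo.exists_ne4 hn i j k k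
  obtain ⟨m, hm1, hm2, hm3, hm4⟩ := SecTwo.exists_ne4 hn i j k l
  let f : Fin 5 → (Fin n → ZMod 2) := ![0, Pi.single i 1 + Pi.single j 1, Pi.single i 1 + Pi.single k 1,
    Pi.single j 1 + Pi.single k 1, Pi.single i 1 + Pi.single l (η l)]
  have hf : ∀ t, ε (f t) ∈ Δ := by
    intro t
    fin_cases t
    · change ε 0 ∈ Δ
      rw [z.hyp.ev.zero]
      exact one_mem _
    · have := hmem i j hij
      rwa [hi, hj] at this
    · have := hmem i k hik
      rwa [hi, hk] at this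
    · have := hmem j k hjk
      rwa [hj, hk] at this
    · have := hmem i l hl1.symm
      rwa [hi] at this
  have hfm : ∀ t, f t m = 0 := by
    intro t
    fin_cases t <;> simp [f, Pi.single_eq_of_ne hm1, Pi.single_eq_of_ne hm2, Pi.single_eq_of_ne hm3,
      Pi.single_eq_of_ne hm4]
  have hfi : ∀ t, (f t i, f t j, f t k) = (![((0 : ZMod 2), (0 : ZMod 2), (0 : ZMod 2)), (1, 1, 0), (1, 0, 1),
      (0, 1, 1), (1, 0, 0)] : Fin 5 → ZMod 2 × ZMod 2 × ZMod 2) t := by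
    intro t
    fin_cases t <;> simp [f, Pi.single_eq_of_ne hij, Pi.single_eq_of_ne hij.symm, Pi.single_eq_of_ne hik,
      Pi.single_eq_of_ne hik.symm, Pi.single_eq_of_ne hjk, Pi.single_eq_of_ne hjk.symm,
      Pi.single_eq_of_ne hl1.symm, Pi.single_eq_of_ne hl2.symm, Pi.single_eq_of_ne hl3.symm]
  have hinj : Function.Injective (fun t : Fin 5 => (⟨ε (f t), hf t⟩ : Δ)) := by
    intro s t hst
    have h1 : ε (f s) = ε (f t) := congrArg Subtype.val hst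
    have h2 : f s = f t := by
      rcases z.hyp.ev.eq_iff.1 h1 with h2 | h2
      · exact h2
      · have h3 := congrFun h2 m
        rw [Pi.add_apply, hfm, hfm, Pi.one_apply, zero_add] at h3
        exact absurd h3 zero_ne_one
    have h3 := hfi s
    rw [h2, hfi t] at h3
    clear h1 h2 hst
    revert s t
    decide
  have h5 := Nat.card_le_card_of_injective _ hinj
  rw [Nat.card_eq_fintype_card, Fintype.card_fin] at h5
  omega

/-- **TYPE I gives TYPE II** -/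
theorem typeOne (k1 : KOne V ε) {c : G} (hc : c ∈ centralizer (V : Set G)) (Δ : Subgroup G) [Finite Δ]
    (h4 : Nat.card Δ ≤ 4) (hΔ : ∀ i j, i ≠ j → ∃ u, Hv V ε i j u ∧ u⁻¹ * (c * u * c⁻¹) ∈ Δ) {p q : Fin n}
    (hpq : p ≠ q) {u₀ : G} (hu₀ : Hv V ε p q u₀) (hne : c * u₀ ≠ u₀ * c) :
    ∃ p' ∈ ({p, q} : Set (Fin n)), ∃ j, p' ≠ j ∧ ∀ u ∈ Wd V ε p' j, u ∉ V → c * u * c⁻¹ = u * zz ε p' := by
  have hn : 9 ≤ Fintype.card (Fin n) := by rw [Fintype.card_fin]; exact z.hyp.nine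
  obtain ⟨η, hη⟩ := z.eta k1 hc
  have hne' : ¬ (η p = 0 ∧ η q = 0) := by
    rintro ⟨h1, h2⟩
    have h3 := hη p q hpq u₀ (z.hmem p q u₀ hpq hu₀) hu₀.1
    rw [h1, h2, Pi.single_zero, Pi.single_zero, add_zero, z.hyp.ev.zero, mul_one] at h3
    exact hne (mul_inv_eq_iff_eq_mul.1 h3)
  -- a letter with `η = 1` and a letter with `η = 0`
  have key : ∀ p' j, p' ≠ j → η p' = 1 → η j = 0 → ∀ u ∈ Wd V ε p' j, u ∉ V → c * u * c⁻¹ = u * zz ε p' := by
    intro p' j hpj h1 h2 u hu huV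
    have h3 := hη p' j hpj u hu huV
    rwa [h1, h2, Pi.single_zero, add_zero] at h3
  have hfind : ∀ p', η p' = 1 → ∃ j, p' ≠ j ∧ η j = 0 := by
    intro p' hp'
    obtain ⟨j, hj, -, -, -⟩ := SecTwo.exists_ne4 hn p' p' p' p'
    by_cases hj0 : η j = 0
    · exact ⟨j, hj.symm, hj0⟩
    · obtain ⟨k, hk1, hk2, -, -⟩ := SecTwo.exists_ne4 hn p' j j j
      exact ⟨k, hk1.symm, z.few hη Δ h4 hΔ hj.symm hk1.symm hk2.symm hp' (SecTwo.z2a _ hj0)⟩
  by_cases h1 : η p = 0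
  · have h2 : η q = 1 := SecTwo.z2a _ fun h2 => hne' ⟨h1, h2⟩
    obtain ⟨j, hj, hj0⟩ := hfind q h2
    exact ⟨q, by simp, j, hj, key q j hj h2 hj0⟩
  · obtain ⟨j, hj, hj0⟩ := hfind p (SecTwo.z2a _ h1)
    exact ⟨p, by simp, j, hj, key p j hj (SecTwo.z2a _ h1) hj0⟩

end Zr

end Cfsg.Agent.Omega.NO3S.SN2.CL
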