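import Cfsg.Agent.Omega.NO3S.SN2.CL.Br
import Cfsg.Agent.Omega.NO3S.SN2.CL.Out

/-!
# THEOREM CL, section 0: `Hyp V ε → Zr V ε` (helper448)

* `Hyp.eq_vv`, **`Hyp.inp`** : `V = vv ε`, `Inp ε`;  `Inp.hyp`;  `Wd_eq`, `Ud_eq`;
* **`Hyp.conj`** : the hypotheses hold for the conjugate lines;
* **`zr`** : `Hyp V ε → Zr V ε`.
-/

set_option autoImplicit false

namespace Cfsg.Agent.Omega.NO3S.SN2.CL

open Subgroup Cfsg.Agent.Omega.S5.Def Cfsg.Agent.Omega.NSix.Base Cfsg.Agent.Omega.NSix.Basic
open Cfsg.Agent.Omega.NO3S.SN2.PathW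
open scoped Pointwise

universe u

variable {G : Type u} [Group G] {n : ℕ} {V : Subgroup G} {ε : (Fin n → ZMod 2) → G}

theorem Wd_eq (ε : (Fin n → ZMod 2) → G) (i j : Fin n) : Wd (vv ε) ε i j = EE ε i j := by
  unfold Wd EE
  congr 1
  ext g
  exact ⟨fun ⟨x, hx, v, hv, h⟩ => ⟨x, hx, v, hv, h.symm⟩, fun ⟨x, hx, v, hv, h⟩ => ⟨x, hx, v, hv, h.symm⟩⟩

theorem Ud_eq (ε : (Fin n → ZMod 2) → G) (i : Fin n) : Ud (vv ε) ε i = Uz ε i := by
  unfold Ud Uz
  congr 1
  ext g
  exact ⟨fun ⟨x, hx, v, hv, h⟩ => ⟨x, hx, v, hv, h.symm⟩, fun ⟨x, hx, v, hv, h⟩ => ⟨x, hx, v, hv, h.symm⟩⟩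

/-- the line is generated by the values of `ε` -/
theorem eq_vv {L : Subgroup G} (h : EvenSet n V L ε) : V = vv ε := by
  apply le_antisymm
  · intro v hv
    obtain ⟨x, rfl⟩ := h.surj v hv
    exact subset_closure ⟨x, rfl⟩
  · unfold vv
    rw [closure_le]
    rintro _ ⟨x, rfl⟩
    exact h.mem x

theorem Hyp.eq_vv (h : Hyp V ε) : V = vv ε := CL.eq_vv h.ev

theorem Hyp.inp (h : Hyp V ε) : Inp ε := by
  have hV := h.eq_vv
  subst hV
  exact
    { n9 := h.nine
      ev := h.ev
      ua := h.ua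
      cv := fun i w hw hc => h.cv i w (by rw [Ud_eq]; exact hw) hc
      mov := h.mov
      ln := h.ln
      two := fun i j hij a ha b hb han hbn =>
        h.two i j hij a (by rw [Wd_eq]; exact ha) b (by rw [Wd_eq]; exact hb) han hbn }

theorem Inp.hyp (h : Inp ε) : Hyp (vv ε) ε where
  nine := h.n9
  ev := h.ev
  ua := h.ua
  cv i u hu hc := h.cv i u (by rwa [Ud_eq] at hu) hc
  ln := h.ln
  two i j hij w hw w' hw' hn hn' := h.two i j hij w (by rwa [Wd_eq] at hw) w' (by rwa [Wd_eq] at hw') hn hn'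
  mov := h.mov

/-- **The hypotheses hold for the conjugate lines.** -/
theorem Hyp.conj (h : Hyp V ε) (g : G) : Hyp (MulAut.conj g • V) (fun x => g * ε x * g⁻¹) := by
  have hV := h.eq_vv
  subst hV
  have h1 := (h.inp.conj g).hyp
  rw [vv_cj] at h1
  exact h1

theorem not_norm_of_notMem (h : Inp ε) {i : Fin n} {x : G} (hu : x * zz ε i * x⁻¹ ∉ vv ε) :
    x ∉ normalizer (vv ε : Set G) := fun h1 => hu ((mem_normalizer_iff.1 h1 _).1 (h.zz_memV i))

/-- **Section 0 of THEOREM CL.** -/
theorem zr (h : Hyp V ε) : Zr V ε := by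
  have hV := h.eq_vv
  subst hV
  have hi := h.inp
  have hsw : ∀ i j, i ≠ j → ∃ y ∈ XX ε i j, Acts ε y (Equiv.swap i j) := by
    intro i j hij
    obtain ⟨m, -, hm⟩ := h.ev.full (Equiv.swap i j)
    refine ⟨m, ?_, hm⟩
    rw [mem_XX]
    intro x hx
    have h1 := hm x
    have h2 : x ∘ (Equiv.swap i j).symm = x := by
      funext k
      rw [Function.comp_apply, Equiv.symm_swap]
      by_cases h3 : k = i
      · rw [h3, Equiv.swap_apply_left, hx]
      · by_cases h4 : k = j
        · rw [h4, Equiv.swap_apply_right, hx]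
        · rw [Equiv.swap_apply_of_ne_of_ne h3 h4]
    rw [h2] at h1
    exact mul_inv_eq_iff_eq_mul.1 h1
  exact
    { hyp := h
      comm := fun i j _ => by rw [Wd_eq]; exact hi.EE_comm
      sq := fun i j _ => by rw [Wd_eq]; exact hi.EE_sq
      le_Ud := fun i j k _ h1 h2 => by rw [Wd_eq, Ud_eq]; exact Inp.EE_le_Uz h1 h2
      V_le := fun i j => by rw [Wd_eq]; exact Inp.vv_le_EE i j
      symm := fun i j => by rw [Wd_eq, Wd_eq]; exact Inp.EE_symm i j
      nor := fun i j g hg w hw => by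
        rw [Wd_eq] at hw ⊢
        exact Inp.EE_conj hg hw
      conj := fun g σ hg i j w hw => by
        rw [Wd_eq] at hw ⊢
        exact hi.EE_acts hg hw
      hconj := fun g σ hg i j u hu => by
        obtain ⟨h1, x, hx, rfl⟩ := hu
        refine ⟨hi.notMem_acts hg h1, g * x * g⁻¹, Inp.XX_acts hg hx, ?_⟩
        rw [← zz_conj hg]
        group
      nx := fun i j hij y hy hn => by
        rcases hi.acts_of_XX hij hy hn with h1 | h1
        · exact Or.inl (h.ev.acts_one_iff.1 h1)
        · exact Or.inr h1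
      sw := hsw
      hsymm := fun i j u hij hu => by
        obtain ⟨h1, x, hx, rfl⟩ := hu
        obtain ⟨y, hy, hya⟩ := hsw i j hij
        refine ⟨h1, x * y, ?_, ?_⟩
        · rw [XX_symm]
          exact mul_mem hx hy
        · have h2 := hya.single j
          rw [Equiv.swap_apply_right] at h2
          change y * zz ε j * y⁻¹ = zz ε i at h2
          rw [← h2]
          group
      hex := fun i j hij => by
        obtain ⟨x, hx, hn⟩ := h.mov i j hij
        exact ⟨_, hi.zz_notMem hij hx hn, x, hx, rfl⟩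
      hmem := fun i j u _ hu => by
        obtain ⟨h1, x, hx, rfl⟩ := hu
        rw [Wd_eq]
        exact hi.zz_mem_EE hx
      hv := fun i j u u' hij hu hu' => by
        obtain ⟨h1, x, hx, rfl⟩ := hu
        obtain ⟨h2, y, hy, rfl⟩ := hu'
        exact hi.letters hij hx (not_norm_of_notMem hi h1) hy (not_norm_of_notMem hi h2)
      htt := fun i j u hij hu a b => by
        obtain ⟨h1, x, hx, rfl⟩ := hu
        obtain ⟨c, hc, hce⟩ := hi.br_surj hij a b
        have h2 := hce _ (hi.zz_mem_EE hx) h1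
        refine ⟨fun h3 => h1 ?_, c * x, mul_mem (Inp.centralizer_le_XX hc) hx, ?_⟩
        · have h4 := mul_mem h3 (inv_mem (hi.tt_memV i j a b))
          rwa [mul_inv_cancel_right] at h4
        · rw [← h2]
          group
      br := fun i j hij c hc => by
        rw [Wd_eq]
        exact hi.br hij hc
      onto := fun i j hij a b => by
        rw [Wd_eq]
        exact hi.br_surj hij a b
      ti := fun i j hij x hx hn y hy => (hi.mem_iff hij hx hn).1 hy
      lin := fun i j hij x hx hn c hc a b he => by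
        have he' := he
        rw [tt_eq] at he'
        have h1 := hi.br_norm hij hx hc he'
        constructor
        · intro h2
          rcases h1.1 h2 with h3 | h3
          · rw [← tt_eq ε i j a b, ← tt_zero h.ev i j] at h3
            obtain ⟨rfl, rfl⟩ := tt_inj h.ev hi.n3 hij h3
            rfl
          · rw [← tt_eq ε i j a b, rr_eq_tt h.ev] at h3
            obtain ⟨rfl, rfl⟩ := tt_inj h.ev hi.n3 hij h3
            rfl
        · rintro rfl
          refine h1.2 ?_
          rw [(tt_coord hij a a).1, (tt_coord hij a a).2.1] }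

end Cfsg.Agent.Omega.NO3S.SN2.CL
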